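import Cfsg.Agent.Lib.Sporadic.ONData.ONTableParts

/-!
# The action on 122760 points

Machine-generated data and the kernel checks on it.
-/

set_option maxRecDepth 100000

namespace CfsgLib.Sporadic.CosetCert.ONData

/-- The permutations of the letters. -/
noncomputable def table : PTab where
  N := 122760
  nl := 8
  wb := 17
  iv := 0x76543201
  slp := []
  tab := (.node (.node table_part0 table_part1) (.node table_part2 table_part3))

end CfsgLib.Sporadic.CosetCert.ONData
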