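import Cfsg.Agent.Lib.Sporadic.ONData.ONFast
import Cfsg.Agent.Lib.Sporadic.ONData.ONTable

/-!
# Rows 2 and 3 agree with the table

Machine-generated data and the kernel checks on it.
-/

set_option maxRecDepth 100000
set_option Elab.async false

namespace CfsgLib.Sporadic.CosetCert.ONData

theorem table_fast2_0 : table.agreeL 2 fast2 0 8000 = true := by decide +kernel
theorem table_fast2_1 : table.agreeL 2 fast2 8000 8000 = true := by decide +kernel
theorem table_fast2_2 : table.agreeL 2 fast2 16000 8000 = true := by decide +kernel
theorem table_fast2_3 : table.agreeL 2 fast2 24000 8000 = true := by decide +kernel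
theorem table_fast2_4 : table.agreeL 2 fast2 32000 8000 = true := by decide +kernel
theorem table_fast2_5 : table.agreeL 2 fast2 40000 8000 = true := by decide +kernel
theorem table_fast2_6 : table.agreeL 2 fast2 48000 8000 = true := by decide +kernel
theorem table_fast2_7 : table.agreeL 2 fast2 56000 8000 = true := by decide +kernel
theorem table_fast2_8 : table.agreeL 2 fast2 64000 8000 = true := by decide +kernel
theorem table_fast2_9 : table.agreeL 2 fast2 72000 8000 = true := by decide +kernel
theorem table_fast2_10 : table.agreeL 2 fast2 80000 8000 = true := by decide +kernel
theorem table_fast2_11 : table.agreeL 2 fast2 88000 8000 = true := by decide +kernel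
theorem table_fast2_12 : table.agreeL 2 fast2 96000 8000 = true := by decide +kernel
theorem table_fast2_13 : table.agreeL 2 fast2 104000 8000 = true := by decide +kernel
theorem table_fast2_14 : table.agreeL 2 fast2 112000 8000 = true := by decide +kernel
theorem table_fast2_15 : table.agreeL 2 fast2 120000 2760 = true := by decide +kernel
theorem table_fast3_0 : table.agreeL 3 fast3 0 8000 = true := by decide +kernel
theorem table_fast3_1 : table.agreeL 3 fast3 8000 8000 = true := by decide +kernel
theorem table_fast3_2 : table.agreeL 3 fast3 16000 8000 = true := by decide +kernel
theorem table_fast3_3 : table.agreeL 3 fast3 24000 8000 = true := by decide +kernel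
theorem table_fast3_4 : table.agreeL 3 fast3 32000 8000 = true := by decide +kernel
theorem table_fast3_5 : table.agreeL 3 fast3 40000 8000 = true := by decide +kernel
theorem table_fast3_6 : table.agreeL 3 fast3 48000 8000 = true := by decide +kernel
theorem table_fast3_7 : table.agreeL 3 fast3 56000 8000 = true := by decide +kernel
theorem table_fast3_8 : table.agreeL 3 fast3 64000 8000 = true := by decide +kernel
theorem table_fast3_9 : table.agreeL 3 fast3 72000 8000 = true := by decide +kernel
theorem table_fast3_10 : table.agreeL 3 fast3 80000 8000 = true := by decide +kernel
theorem table_fast3_11 : table.agreeL 3 fast3 88000 8000 = true := by decide +kernel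
theorem table_fast3_12 : table.agreeL 3 fast3 96000 8000 = true := by decide +kernel
theorem table_fast3_13 : table.agreeL 3 fast3 104000 8000 = true := by decide +kernel
theorem table_fast3_14 : table.agreeL 3 fast3 112000 8000 = true := by decide +kernel
theorem table_fast3_15 : table.agreeL 3 fast3 120000 2760 = true := by decide +kernel

end CfsgLib.Sporadic.CosetCert.ONData
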