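import Cfsg.Agent.Lib.Sporadic.ONData.ONFast
import Cfsg.Agent.Lib.Sporadic.ONData.ONTable

/-!
# Rows 4 and 5 agree with the table

Machine-generated data and the kernel checks on it.
-/

set_option maxRecDepth 100000
set_option Elab.async false

namespace CfsgLib.Sporadic.CosetCert.ONData

theorem table_fast4_0 : table.agreeL 4 fast4 0 8000 = true := by decide +kernel
theorem table_fast4_1 : table.agreeL 4 fast4 8000 8000 = true := by decide +kernel
theorem table_fast4_2 : table.agreeL 4 fast4 16000 8000 = true := by decide +kernel
theorem table_fast4_3 : table.agreeL 4 fast4 24000 8000 = true := by decide +kernel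
theorem table_fast4_4 : table.agreeL 4 fast4 32000 8000 = true := by decide +kernel
theorem table_fast4_5 : table.agreeL 4 fast4 40000 8000 = true := by decide +kernel
theorem table_fast4_6 : table.agreeL 4 fast4 48000 8000 = true := by decide +kernel
theorem table_fast4_7 : table.agreeL 4 fast4 56000 8000 = true := by decide +kernel
theorem table_fast4_8 : table.agreeL 4 fast4 64000 8000 = true := by decide +kernel
theorem table_fast4_9 : table.agreeL 4 fast4 72000 8000 = true := by decide +kernel
theorem table_fast4_10 : table.agreeL 4 fast4 80000 8000 = true := by decide +kernel
theorem table_fast4_11 : table.agreeL 4 fast4 88000 8000 = true := by decide +kernel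
theorem table_fast4_12 : table.agreeL 4 fast4 96000 8000 = true := by decide +kernel
theorem table_fast4_13 : table.agreeL 4 fast4 104000 8000 = true := by decide +kernel
theorem table_fast4_14 : table.agreeL 4 fast4 112000 8000 = true := by decide +kernel
theorem table_fast4_15 : table.agreeL 4 fast4 120000 2760 = true := by decide +kernel
theorem table_fast5_0 : table.agreeL 5 fast5 0 8000 = true := by decide +kernel
theorem table_fast5_1 : table.agreeL 5 fast5 8000 8000 = true := by decide +kernel
theorem table_fast5_2 : table.agreeL 5 fast5 16000 8000 = true := by decide +kernel
theorem table_fast5_3 : table.agreeL 5 fast5 24000 8000 = true := by decide +kernel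
theorem table_fast5_4 : table.agreeL 5 fast5 32000 8000 = true := by decide +kernel
theorem table_fast5_5 : table.agreeL 5 fast5 40000 8000 = true := by decide +kernel
theorem table_fast5_6 : table.agreeL 5 fast5 48000 8000 = true := by decide +kernel
theorem table_fast5_7 : table.agreeL 5 fast5 56000 8000 = true := by decide +kernel
theorem table_fast5_8 : table.agreeL 5 fast5 64000 8000 = true := by decide +kernel
theorem table_fast5_9 : table.agreeL 5 fast5 72000 8000 = true := by decide +kernel
theorem table_fast5_10 : table.agreeL 5 fast5 80000 8000 = true := by decide +kernel
theorem table_fast5_11 : table.agreeL 5 fast5 88000 8000 = true := by decide +kernel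
theorem table_fast5_12 : table.agreeL 5 fast5 96000 8000 = true := by decide +kernel
theorem table_fast5_13 : table.agreeL 5 fast5 104000 8000 = true := by decide +kernel
theorem table_fast5_14 : table.agreeL 5 fast5 112000 8000 = true := by decide +kernel
theorem table_fast5_15 : table.agreeL 5 fast5 120000 2760 = true := by decide +kernel

end CfsgLib.Sporadic.CosetCert.ONData
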