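import Cfsg.Agent.Lib.Sporadic.ONData.ONFast
import Cfsg.Agent.Lib.Sporadic.ONData.ONTable

/-!
# Rows 6 and 7 agree with the table

Machine-generated data and the kernel checks on it.
-/

set_option maxRecDepth 100000
set_option Elab.async false

namespace CfsgLib.Sporadic.CosetCert.ONData

theorem table_fast6_0 : table.agreeL 6 fast6 0 8000 = true := by decide +kernel
theorem table_fast6_1 : table.agreeL 6 fast6 8000 8000 = true := by decide +kernel
theorem table_fast6_2 : table.agreeL 6 fast6 16000 8000 = true := by decide +kernel
theorem table_fast6_3 : table.agreeL 6 fast6 24000 8000 = true := by decide +kernel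
theorem table_fast6_4 : table.agreeL 6 fast6 32000 8000 = true := by decide +kernel
theorem table_fast6_5 : table.agreeL 6 fast6 40000 8000 = true := by decide +kernel
theorem table_fast6_6 : table.agreeL 6 fast6 48000 8000 = true := by decide +kernel
theorem table_fast6_7 : table.agreeL 6 fast6 56000 8000 = true := by decide +kernel
theorem table_fast6_8 : table.agreeL 6 fast6 64000 8000 = true := by decide +kernel
theorem table_fast6_9 : table.agreeL 6 fast6 72000 8000 = true := by decide +kernel
theorem table_fast6_10 : table.agreeL 6 fast6 80000 8000 = true := by decide +kernel
theorem table_fast6_11 : table.agreeL 6 fast6 88000 8000 = true := by decide +kernel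
theorem table_fast6_12 : table.agreeL 6 fast6 96000 8000 = true := by decide +kernel
theorem table_fast6_13 : table.agreeL 6 fast6 104000 8000 = true := by decide +kernel
theorem table_fast6_14 : table.agreeL 6 fast6 112000 8000 = true := by decide +kernel
theorem table_fast6_15 : table.agreeL 6 fast6 120000 2760 = true := by decide +kernel
theorem table_fast7_0 : table.agreeL 7 fast7 0 8000 = true := by decide +kernel
theorem table_fast7_1 : table.agreeL 7 fast7 8000 8000 = true := by decide +kernel
theorem table_fast7_2 : table.agreeL 7 fast7 16000 8000 = true := by decide +kernel
theorem table_fast7_3 : table.agreeL 7 fast7 24000 8000 = true := by decide +kernel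
theorem table_fast7_4 : table.agreeL 7 fast7 32000 8000 = true := by decide +kernel
theorem table_fast7_5 : table.agreeL 7 fast7 40000 8000 = true := by decide +kernel
theorem table_fast7_6 : table.agreeL 7 fast7 48000 8000 = true := by decide +kernel
theorem table_fast7_7 : table.agreeL 7 fast7 56000 8000 = true := by decide +kernel
theorem table_fast7_8 : table.agreeL 7 fast7 64000 8000 = true := by decide +kernel
theorem table_fast7_9 : table.agreeL 7 fast7 72000 8000 = true := by decide +kernel
theorem table_fast7_10 : table.agreeL 7 fast7 80000 8000 = true := by decide +kernel
theorem table_fast7_11 : table.agreeL 7 fast7 88000 8000 = true := by decide +kernel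
theorem table_fast7_12 : table.agreeL 7 fast7 96000 8000 = true := by decide +kernel
theorem table_fast7_13 : table.agreeL 7 fast7 104000 8000 = true := by decide +kernel
theorem table_fast7_14 : table.agreeL 7 fast7 112000 8000 = true := by decide +kernel
theorem table_fast7_15 : table.agreeL 7 fast7 120000 2760 = true := by decide +kernel

end CfsgLib.Sporadic.CosetCert.ONData
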