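import Cfsg.Agent.Lib.Sporadic.ONData.ONFastAgree0
import Cfsg.Agent.Lib.Sporadic.ONData.ONFastAgree1
import Cfsg.Agent.Lib.Sporadic.ONData.ONFastAgree2
import Cfsg.Agent.Lib.Sporadic.ONData.ONFastAgree3

/-!
# The fast rows agree with the table

Machine-generated data and the kernel checks on it.
-/

set_option maxRecDepth 100000
set_option Elab.async false

namespace CfsgLib.Sporadic.CosetCert.ONData

theorem table_fast : ∀ x < table.nl, ∀ u < table.N,
    table.img x u = fastRows.getD x id u ∧ fastRows.getD x id u < table.N := by
  intro x hx u hu
  change x < 8 at hx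
  match x, hx with
  | 0, _ => exact (range_split (range_split (range_split (range_split (PTab.agreeL_spec table_fast0_0) (PTab.agreeL_spec table_fast0_1)) (range_split (PTab.agreeL_spec table_fast0_2) (PTab.agreeL_spec table_fast0_3))) (range_split (range_split (PTab.agreeL_spec table_fast0_4) (PTab.agreeL_spec table_fast0_5)) (range_split (PTab.agreeL_spec table_fast0_6) (PTab.agreeL_spec table_fast0_7)))) (range_split (range_split (range_split (PTab.agreeL_spec table_fast0_8) (PTab.agreeL_spec table_fast0_9)) (range_split (PTab.agreeL_spec table_fast0_10) (PTab.agreeL_spec table_fast0_11))) (range_split (range_split (PTab.agreeL_spec table_fast0_12) (PTab.agreeL_spec table_fast0_13)) (range_split (PTab.agreeL_spec table_fast0_14) (PTab.agreeL_spec table_fast0_15))))) u (Nat.zero_le _) hu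
  | 1, _ => exact (range_split (range_split (range_split (range_split (PTab.agreeL_spec table_fast1_0) (PTab.agreeL_spec table_fast1_1)) (range_split (PTab.agreeL_spec table_fast1_2) (PTab.agreeL_spec table_fast1_3))) (range_split (range_split (PTab.agreeL_spec table_fast1_4) (PTab.agreeL_spec table_fast1_5)) (range_split (PTab.agreeL_spec table_fast1_6) (PTab.agreeL_spec table_fast1_7)))) (range_split (range_split (range_split (PTab.agreeL_spec table_fast1_8) (PTab.agreeL_spec table_fast1_9)) (range_split (PTab.agreeL_spec table_fast1_10) (PTab.agreeL_spec table_fast1_11))) (range_split (range_split (PTab.agreeL_spec table_fast1_12) (PTab.agreeL_spec table_fast1_13)) (range_split (PTab.agreeL_spec table_fast1_14) (PTab.agreeL_spec table_fast1_15))))) u (Nat.zero_le _) hu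
  | 2, _ => exact (range_split (range_split (range_split (range_split (PTab.agreeL_spec table_fast2_0) (PTab.agreeL_spec table_fast2_1)) (range_split (PTab.agreeL_spec table_fast2_2) (PTab.agreeL_spec table_fast2_3))) (range_split (range_split (PTab.agreeL_spec table_fast2_4) (PTab.agreeL_spec table_fast2_5)) (range_split (PTab.agreeL_spec table_fast2_6) (PTab.agreeL_spec table_fast2_7)))) (range_split (range_split (range_split (PTab.agreeL_spec table_fast2_8) (PTab.agreeL_spec table_fast2_9)) (range_split (PTab.agreeL_spec table_fast2_10) (PTab.agreeL_spec table_fast2_11))) (range_split (range_split (PTab.agreeL_spec table_fast2_12) (PTab.agreeL_spec table_fast2_13)) (range_split (PTab.agreeL_spec table_fast2_14) (PTab.agreeL_spec table_fast2_15))))) u (Nat.zero_le _) hu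
  | 3, _ => exact (range_split (range_split (range_split (range_split (PTab.agreeL_spec table_fast3_0) (PTab.agreeL_spec table_fast3_1)) (range_split (PTab.agreeL_spec table_fast3_2) (PTab.agreeL_spec table_fast3_3))) (range_split (range_split (PTab.agreeL_spec table_fast3_4) (PTab.agreeL_spec table_fast3_5)) (range_split (PTab.agreeL_spec table_fast3_6) (PTab.agreeL_spec table_fast3_7)))) (range_split (range_split (range_split (PTab.agreeL_spec table_fast3_8) (PTab.agreeL_spec table_fast3_9)) (range_split (PTab.agreeL_spec table_fast3_10) (PTab.agreeL_spec table_fast3_11))) (range_split (range_split (PTab.agreeL_spec table_fast3_12) (PTab.agreeL_spec table_fast3_13)) (range_split (PTab.agreeL_spec table_fast3_14) (PTab.agreeL_spec table_fast3_15))))) u (Nat.zero_le _) hu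
  | 4, _ => exact (range_split (range_split (range_split (range_split (PTab.agreeL_spec table_fast4_0) (PTab.agreeL_spec table_fast4_1)) (range_split (PTab.agreeL_spec table_fast4_2) (PTab.agreeL_spec table_fast4_3))) (range_split (range_split (PTab.agreeL_spec table_fast4_4) (PTab.agreeL_spec table_fast4_5)) (range_split (PTab.agreeL_spec table_fast4_6) (PTab.agreeL_spec table_fast4_7)))) (range_split (range_split (range_split (PTab.agreeL_spec table_fast4_8) (PTab.agreeL_spec table_fast4_9)) (range_split (PTab.agreeL_spec table_fast4_10) (PTab.agreeL_spec table_fast4_11))) (range_split (range_split (PTab.agreeL_spec table_fast4_12) (PTab.agreeL_spec table_fast4_13)) (range_split (PTab.agreeL_spec table_fast4_14) (PTab.agreeL_spec table_fast4_15))))) u (Nat.zero_le _) hu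
  | 5, _ => exact (range_split (range_split (range_split (range_split (PTab.agreeL_spec table_fast5_0) (PTab.agreeL_spec table_fast5_1)) (range_split (PTab.agreeL_spec table_fast5_2) (PTab.agreeL_spec table_fast5_3))) (range_split (range_split (PTab.agreeL_spec table_fast5_4) (PTab.agreeL_spec table_fast5_5)) (range_split (PTab.agreeL_spec table_fast5_6) (PTab.agreeL_spec table_fast5_7)))) (range_split (range_split (range_split (PTab.agreeL_spec table_fast5_8) (PTab.agreeL_spec table_fast5_9)) (range_split (PTab.agreeL_spec table_fast5_10) (PTab.agreeL_spec table_fast5_11))) (range_split (range_split (PTab.agreeL_spec table_fast5_12) (PTab.agreeL_spec table_fast5_13)) (range_split (PTab.agreeL_spec table_fast5_14) (PTab.agreeL_spec table_fast5_15))))) u (Nat.zero_le _) hu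
  | 6, _ => exact (range_split (range_split (range_split (range_split (PTab.agreeL_spec table_fast6_0) (PTab.agreeL_spec table_fast6_1)) (range_split (PTab.agreeL_spec table_fast6_2) (PTab.agreeL_spec table_fast6_3))) (range_split (range_split (PTab.agreeL_spec table_fast6_4) (PTab.agreeL_spec table_fast6_5)) (range_split (PTab.agreeL_spec table_fast6_6) (PTab.agreeL_spec table_fast6_7)))) (range_split (range_split (range_split (PTab.agreeL_spec table_fast6_8) (PTab.agreeL_spec table_fast6_9)) (range_split (PTab.agreeL_spec table_fast6_10) (PTab.agreeL_spec table_fast6_11))) (range_split (range_split (PTab.agreeL_spec table_fast6_12) (PTab.agreeL_spec table_fast6_13)) (range_split (PTab.agreeL_spec table_fast6_14) (PTab.agreeL_spec table_fast6_15))))) u (Nat.zero_le _) hu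
  | 7, _ => exact (range_split (range_split (range_split (range_split (PTab.agreeL_spec table_fast7_0) (PTab.agreeL_spec table_fast7_1)) (range_split (PTab.agreeL_spec table_fast7_2) (PTab.agreeL_spec table_fast7_3))) (range_split (range_split (PTab.agreeL_spec table_fast7_4) (PTab.agreeL_spec table_fast7_5)) (range_split (PTab.agreeL_spec table_fast7_6) (PTab.agreeL_spec table_fast7_7)))) (range_split (range_split (range_split (PTab.agreeL_spec table_fast7_8) (PTab.agreeL_spec table_fast7_9)) (range_split (PTab.agreeL_spec table_fast7_10) (PTab.agreeL_spec table_fast7_11))) (range_split (range_split (PTab.agreeL_spec table_fast7_12) (PTab.agreeL_spec table_fast7_13)) (range_split (PTab.agreeL_spec table_fast7_14) (PTab.agreeL_spec table_fast7_15))))) u (Nat.zero_le _) hu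
  | n + 8, h => exact absurd h (by omega)

theorem imgW_fast (L : List ℕ) (hL : L.all (fun x => Nat.blt x 8) = true) :
    ∀ u < table.N, table.imgW L u = PTab.runL (L.map fun x => fastRows.getD x id) u ∧
      table.imgW L u < table.N :=
  PTab.imgW_eq_runL table_fast L fun x hx => by
    have h := List.all_eq_true.1 hL x hx
    rw [Nat.blt_eq] at h
    exact h

end CfsgLib.Sporadic.CosetCert.ONData
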