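import Cfsg.Agent.Lib.Sporadic.ONData.ONFast0
import Cfsg.Agent.Lib.Sporadic.ONData.ONFast1
import Cfsg.Agent.Lib.Sporadic.ONData.ONFast2
import Cfsg.Agent.Lib.Sporadic.ONData.ONFast3

/-!
# All rows in pieces

Machine-generated data and the kernel checks on it.
-/

set_option maxRecDepth 100000

namespace CfsgLib.Sporadic.CosetCert.ONData

/-- The rows. -/
noncomputable def fastRows : List (ℕ → ℕ) := [fast0, fast1, fast2, fast3, fast4, fast5, fast6, fast7]

end CfsgLib.Sporadic.CosetCert.ONData
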