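import Cfsg.Agent.Lib.Sporadic.CosetCertGroup

/-!
# Coset enumeration certificate certA

Machine-generated data and the kernel checks on it.
-/

set_option maxRecDepth 100000
set_option Elab.async false

namespace CfsgLib.Sporadic.CosetCert.ONData

/-- Coset enumeration certificate: 4 cosets, 4 nodes, 12 facts. -/
noncomputable def certA : Cert where
  N := 4
  M := 4
  nl := 3
  nr := 6
  fuel := 1
  vb := 8
  rb := 4
  iv := 0x3210
  words := [(2, 0x0), (6, 0x10101), (4, 0x202), (2, 0x11), (6, 0x121212), (2, 0x22), (1, 0x0), (1, 0x1)]
  slots := (.leaf 0xc03b03a02000802701903000400602501000301200100)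
  just := (.leaf 0x20402044040804048000800130000000000202020840004040580000000000000000000020400c000000000080000110000000000000000000000001c800000031)
  parent := (.leaf 0x9006003000)

theorem certA_keys0 : certA.keysOK 0 16 = true := by decide +kernel
theorem certA_closed0 : certA.closedFrom 13 0 4 = true := by decide +kernel

theorem certA_valid : certA.Valid :=
  valid_of
    (fun k hk => (keysOK_spec certA_keys0) k (Nat.zero_le _) hk)
    (fun u hu => ⟨13, (closedFrom_spec certA_closed0) u (Nat.zero_le _) hu⟩)
    (by decide +kernel) (by decide +kernel)

end CfsgLib.Sporadic.CosetCert.ONData
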