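import Cfsg.Agent.Lib.Sporadic.CosetCertGroup

/-!
# Coset enumeration certificate certD

Machine-generated data and the kernel checks on it.
-/

set_option maxRecDepth 100000
set_option Elab.async false

namespace CfsgLib.Sporadic.CosetCert.ONData

/-- Coset enumeration certificate: 28 cosets, 28 nodes, 112 facts. -/
noncomputable def certD : Cert where
  N := 28
  M := 28
  nl := 4
  nr := 11
  fuel := 1
  vb := 8
  rb := 7
  iv := 0x43210
  words := [(2, 0x0), (6, 0x10101), (4, 0x202), (4, 0x303), (2, 0x11), (6, 0x121212), (4, 0x1313), (2, 0x22), (16, 0x2323232323232323), (2, 0x33), (20, 0x23232323012323232301), (1, 0x0), (1, 0x1), (1, 0x2)]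
  slots := (.leaf 0x1bc6768d6a16d63400033096e1bce27b06c000701bc83388530890000a6235462d8c54180001383ef8bd1179e200002d0a4c0ed2377854000480db027243ae8b0000b22d143f18cc40d00010032b8ae81a821c000328d3e127a198064000521874175845d8880006c157041b85d0170001345e30a340f66140001884cb16942b084c00047155c14b42618a00007e26a421e092a090000981dc88b8104e160001a882f0d480ec83c000300e440cb03558600003a0aa0310041e060000942cd02230a360e0000b01a1092e087c200001c08280a4c1490180001e04641cc031004000054186818c02220a0000702090116062808000050010041c04300800008020c001000100)
  just := (.leaf 0x22c020c4045804148000808b301160001200000000000040c498000810db01120006200020036c000000000000818db01120102202240202400040049800000000000103116022200104084420288088800190000000000002061ec38541428808780031010f0003200000000000040c518000810730000000000002002ac0000000000008186b000102136021a000c4044c00088000000000811060a2021a020440004046580008006b00000000000020618c344410288000808d3010c00032000000000000000000086008290001010c6000000000000000000000000000001020b6242204144042c00088000000000001030a60622020a4042800188000800bb000000000000000000000408518085008090001000a600000000000040c2580000000000010115600020026c0000000000000000001090105200020212c0000000000000000000000000000020410c000000000084000110000000000002060ec000000000000808830107000320000000000000000000008106b0001010760000000000000000000000000000010206600000000000040031800000000000103056000000000041400188082800190000000000000000000004081180000000001040002200000000000040c0d80000000001030006200020010c000000000000000000103010220206020240004000d80000000000010302600000000000040419808100019000000000000000000040804148000808130000000000000000000000000000008100b000000000020200044000000000000818030000000000200000c40400000c8000000000000000000000001a400000030800000059)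
  parent := (.leaf 0x7005e05b05904f04904504204003e03a03603303102f02b02702502101d01701301000e00c008004000)

theorem certD_keys0 : certD.keysOK 0 140 = true := by decide +kernel
theorem certD_closed0 : certD.closedFrom 113 0 28 = true := by decide +kernel

theorem certD_valid : certD.Valid :=
  valid_of
    (fun k hk => (keysOK_spec certD_keys0) k (Nat.zero_le _) hk)
    (fun u hu => ⟨113, (closedFrom_spec certD_closed0) u (Nat.zero_le _) hu⟩)
    (by decide +kernel) (by decide +kernel)

end CfsgLib.Sporadic.CosetCert.ONData
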