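import Cfsg.Agent.Lib.Sporadic.ONData.ONCertGData

/-!
# Checks 1 of certG

Machine-generated data and the kernel checks on it.
-/

set_option maxRecDepth 100000
set_option Elab.async false

namespace CfsgLib.Sporadic.CosetCert.ONData

theorem certG_keys10 : certG.keysOK 40000 4000 = true := by decide +kernel
theorem certG_keys11 : certG.keysOK 44000 4000 = true := by decide +kernel
theorem certG_keys12 : certG.keysOK 48000 4000 = true := by decide +kernel
theorem certG_keys13 : certG.keysOK 52000 4000 = true := by decide +kernel
theorem certG_keys14 : certG.keysOK 56000 4000 = true := by decide +kernel
theorem certG_keys15 : certG.keysOK 60000 4000 = true := by decide +kernel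
theorem certG_keys16 : certG.keysOK 64000 4000 = true := by decide +kernel
theorem certG_keys17 : certG.keysOK 68000 4000 = true := by decide +kernel
theorem certG_keys18 : certG.keysOK 72000 4000 = true := by decide +kernel
theorem certG_keys19 : certG.keysOK 76000 4000 = true := by decide +kernel

end CfsgLib.Sporadic.CosetCert.ONData
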