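import Cfsg.Agent.Lib.Sporadic.ONData.ONCertGData

/-!
# Checks 10 of certG

Machine-generated data and the kernel checks on it.
-/

set_option maxRecDepth 100000
set_option Elab.async false

namespace CfsgLib.Sporadic.CosetCert.ONData

theorem certG_keys100 : certG.keysOK 400000 4000 = true := by decide +kernel
theorem certG_keys101 : certG.keysOK 404000 4000 = true := by decide +kernel
theorem certG_keys102 : certG.keysOK 408000 4000 = true := by decide +kernel
theorem certG_keys103 : certG.keysOK 412000 4000 = true := by decide +kernel
theorem certG_keys104 : certG.keysOK 416000 4000 = true := by decide +kernel
theorem certG_keys105 : certG.keysOK 420000 4000 = true := by decide +kernel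
theorem certG_keys106 : certG.keysOK 424000 4000 = true := by decide +kernel
theorem certG_keys107 : certG.keysOK 428000 4000 = true := by decide +kernel
theorem certG_keys108 : certG.keysOK 432000 4000 = true := by decide +kernel
theorem certG_keys109 : certG.keysOK 436000 4000 = true := by decide +kernel

end CfsgLib.Sporadic.CosetCert.ONData
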