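import Cfsg.Agent.Lib.Sporadic.ONData.ONCertGData

/-!
# Checks 12 of certG

Machine-generated data and the kernel checks on it.
-/

set_option maxRecDepth 100000
set_option Elab.async false

namespace CfsgLib.Sporadic.CosetCert.ONData

theorem certG_keys120 : certG.keysOK 480000 4000 = true := by decide +kernel
theorem certG_keys121 : certG.keysOK 484000 4000 = true := by decide +kernel
theorem certG_keys122 : certG.keysOK 488000 4000 = true := by decide +kernel
theorem certG_keys123 : certG.keysOK 492000 4000 = true := by decide +kernel
theorem certG_keys124 : certG.keysOK 496000 4000 = true := by decide +kernel
theorem certG_keys125 : certG.keysOK 500000 4000 = true := by decide +kernel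
theorem certG_keys126 : certG.keysOK 504000 4000 = true := by decide +kernel
theorem certG_keys127 : certG.keysOK 508000 4000 = true := by decide +kernel
theorem certG_keys128 : certG.keysOK 512000 4000 = true := by decide +kernel
theorem certG_keys129 : certG.keysOK 516000 4000 = true := by decide +kernel

end CfsgLib.Sporadic.CosetCert.ONData
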