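import Cfsg.Agent.Lib.Sporadic.ONData.ONCertGData

/-!
# Checks 13 of certG

Machine-generated data and the kernel checks on it.
-/

set_option maxRecDepth 100000
set_option Elab.async false

namespace CfsgLib.Sporadic.CosetCert.ONData

theorem certG_keys130 : certG.keysOK 520000 4000 = true := by decide +kernel
theorem certG_keys131 : certG.keysOK 524000 4000 = true := by decide +kernel
theorem certG_keys132 : certG.keysOK 528000 4000 = true := by decide +kernel
theorem certG_keys133 : certG.keysOK 532000 4000 = true := by decide +kernel
theorem certG_keys134 : certG.keysOK 536000 4000 = true := by decide +kernel
theorem certG_keys135 : certG.keysOK 540000 4000 = true := by decide +kernel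
theorem certG_keys136 : certG.keysOK 544000 4000 = true := by decide +kernel
theorem certG_keys137 : certG.keysOK 548000 4000 = true := by decide +kernel
theorem certG_keys138 : certG.keysOK 552000 4000 = true := by decide +kernel
theorem certG_keys139 : certG.keysOK 556000 4000 = true := by decide +kernel

end CfsgLib.Sporadic.CosetCert.ONData
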