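import Cfsg.Agent.Lib.Sporadic.ONData.ONCertGData

/-!
# Checks 14 of certG

Machine-generated data and the kernel checks on it.
-/

set_option maxRecDepth 100000
set_option Elab.async false

namespace CfsgLib.Sporadic.CosetCert.ONData

theorem certG_keys140 : certG.keysOK 560000 4000 = true := by decide +kernel
theorem certG_keys141 : certG.keysOK 564000 4000 = true := by decide +kernel
theorem certG_keys142 : certG.keysOK 568000 4000 = true := by decide +kernel
theorem certG_keys143 : certG.keysOK 572000 4000 = true := by decide +kernel
theorem certG_keys144 : certG.keysOK 576000 4000 = true := by decide +kernel
theorem certG_keys145 : certG.keysOK 580000 4000 = true := by decide +kernel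
theorem certG_keys146 : certG.keysOK 584000 4000 = true := by decide +kernel
theorem certG_keys147 : certG.keysOK 588000 4000 = true := by decide +kernel
theorem certG_keys148 : certG.keysOK 592000 4000 = true := by decide +kernel
theorem certG_keys149 : certG.keysOK 596000 4000 = true := by decide +kernel

end CfsgLib.Sporadic.CosetCert.ONData
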