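import Cfsg.Agent.Lib.Sporadic.ONData.ONCertGData

/-!
# Checks 15 of certG

Machine-generated data and the kernel checks on it.
-/

set_option maxRecDepth 100000
set_option Elab.async false

namespace CfsgLib.Sporadic.CosetCert.ONData

theorem certG_keys150 : certG.keysOK 600000 4000 = true := by decide +kernel
theorem certG_keys151 : certG.keysOK 604000 4000 = true := by decide +kernel
theorem certG_keys152 : certG.keysOK 608000 4000 = true := by decide +kernel
theorem certG_keys153 : certG.keysOK 612000 4000 = true := by decide +kernel
theorem certG_keys154 : certG.keysOK 616000 4000 = true := by decide +kernel
theorem certG_keys155 : certG.keysOK 620000 4000 = true := by decide +kernel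
theorem certG_keys156 : certG.keysOK 624000 4000 = true := by decide +kernel
theorem certG_keys157 : certG.keysOK 628000 4000 = true := by decide +kernel
theorem certG_keys158 : certG.keysOK 632000 4000 = true := by decide +kernel
theorem certG_keys159 : certG.keysOK 636000 4000 = true := by decide +kernel

end CfsgLib.Sporadic.CosetCert.ONData
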