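import Cfsg.Agent.Lib.Sporadic.ONData.ONCertGData

/-!
# Checks 16 of certG

Machine-generated data and the kernel checks on it.
-/

set_option maxRecDepth 100000
set_option Elab.async false

namespace CfsgLib.Sporadic.CosetCert.ONData

theorem certG_keys160 : certG.keysOK 640000 4000 = true := by decide +kernel
theorem certG_keys161 : certG.keysOK 644000 4000 = true := by decide +kernel
theorem certG_keys162 : certG.keysOK 648000 4000 = true := by decide +kernel
theorem certG_keys163 : certG.keysOK 652000 4000 = true := by decide +kernel
theorem certG_keys164 : certG.keysOK 656000 4000 = true := by decide +kernel
theorem certG_keys165 : certG.keysOK 660000 4000 = true := by decide +kernel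
theorem certG_keys166 : certG.keysOK 664000 4000 = true := by decide +kernel
theorem certG_keys167 : certG.keysOK 668000 4000 = true := by decide +kernel
theorem certG_keys168 : certG.keysOK 672000 4000 = true := by decide +kernel
theorem certG_keys169 : certG.keysOK 676000 4000 = true := by decide +kernel

end CfsgLib.Sporadic.CosetCert.ONData
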