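import Cfsg.Agent.Lib.Sporadic.ONData.ONCertGData

/-!
# Checks 17 of certG

Machine-generated data and the kernel checks on it.
-/

set_option maxRecDepth 100000
set_option Elab.async false

namespace CfsgLib.Sporadic.CosetCert.ONData

theorem certG_keys170 : certG.keysOK 680000 4000 = true := by decide +kernel
theorem certG_keys171 : certG.keysOK 684000 4000 = true := by decide +kernel
theorem certG_keys172 : certG.keysOK 688000 4000 = true := by decide +kernel
theorem certG_keys173 : certG.keysOK 692000 4000 = true := by decide +kernel
theorem certG_keys174 : certG.keysOK 696000 4000 = true := by decide +kernel
theorem certG_keys175 : certG.keysOK 700000 4000 = true := by decide +kernel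
theorem certG_keys176 : certG.keysOK 704000 4000 = true := by decide +kernel
theorem certG_keys177 : certG.keysOK 708000 4000 = true := by decide +kernel
theorem certG_keys178 : certG.keysOK 712000 4000 = true := by decide +kernel
theorem certG_keys179 : certG.keysOK 716000 4000 = true := by decide +kernel

end CfsgLib.Sporadic.CosetCert.ONData
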