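import Cfsg.Agent.Lib.Sporadic.ONData.ONCertGData

/-!
# Checks 18 of certG

Machine-generated data and the kernel checks on it.
-/

set_option maxRecDepth 100000
set_option Elab.async false

namespace CfsgLib.Sporadic.CosetCert.ONData

theorem certG_keys180 : certG.keysOK 720000 4000 = true := by decide +kernel
theorem certG_keys181 : certG.keysOK 724000 4000 = true := by decide +kernel
theorem certG_keys182 : certG.keysOK 728000 4000 = true := by decide +kernel
theorem certG_keys183 : certG.keysOK 732000 4000 = true := by decide +kernel
theorem certG_keys184 : certG.keysOK 736000 4000 = true := by decide +kernel
theorem certG_keys185 : certG.keysOK 740000 4000 = true := by decide +kernel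
theorem certG_keys186 : certG.keysOK 744000 4000 = true := by decide +kernel
theorem certG_keys187 : certG.keysOK 748000 4000 = true := by decide +kernel
theorem certG_keys188 : certG.keysOK 752000 4000 = true := by decide +kernel
theorem certG_keys189 : certG.keysOK 756000 4000 = true := by decide +kernel

end CfsgLib.Sporadic.CosetCert.ONData
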