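import Cfsg.Agent.Lib.Sporadic.ONData.ONCertGData

/-!
# Checks 19 of certG

Machine-generated data and the kernel checks on it.
-/

set_option maxRecDepth 100000
set_option Elab.async false

namespace CfsgLib.Sporadic.CosetCert.ONData

theorem certG_keys190 : certG.keysOK 760000 4000 = true := by decide +kernel
theorem certG_keys191 : certG.keysOK 764000 4000 = true := by decide +kernel
theorem certG_keys192 : certG.keysOK 768000 4000 = true := by decide +kernel
theorem certG_keys193 : certG.keysOK 772000 4000 = true := by decide +kernel
theorem certG_keys194 : certG.keysOK 776000 4000 = true := by decide +kernel
theorem certG_keys195 : certG.keysOK 780000 4000 = true := by decide +kernel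
theorem certG_keys196 : certG.keysOK 784000 4000 = true := by decide +kernel
theorem certG_keys197 : certG.keysOK 788000 4000 = true := by decide +kernel
theorem certG_keys198 : certG.keysOK 792000 4000 = true := by decide +kernel
theorem certG_keys199 : certG.keysOK 796000 4000 = true := by decide +kernel

end CfsgLib.Sporadic.CosetCert.ONData
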