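import Cfsg.Agent.Lib.Sporadic.ONData.ONCertGData

/-!
# Checks 2 of certG

Machine-generated data and the kernel checks on it.
-/

set_option maxRecDepth 100000
set_option Elab.async false

namespace CfsgLib.Sporadic.CosetCert.ONData

theorem certG_keys20 : certG.keysOK 80000 4000 = true := by decide +kernel
theorem certG_keys21 : certG.keysOK 84000 4000 = true := by decide +kernel
theorem certG_keys22 : certG.keysOK 88000 4000 = true := by decide +kernel
theorem certG_keys23 : certG.keysOK 92000 4000 = true := by decide +kernel
theorem certG_keys24 : certG.keysOK 96000 4000 = true := by decide +kernel
theorem certG_keys25 : certG.keysOK 100000 4000 = true := by decide +kernel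
theorem certG_keys26 : certG.keysOK 104000 4000 = true := by decide +kernel
theorem certG_keys27 : certG.keysOK 108000 4000 = true := by decide +kernel
theorem certG_keys28 : certG.keysOK 112000 4000 = true := by decide +kernel
theorem certG_keys29 : certG.keysOK 116000 4000 = true := by decide +kernel

end CfsgLib.Sporadic.CosetCert.ONData
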