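import Cfsg.Agent.Lib.Sporadic.ONData.ONCertGData

/-!
# Checks 20 of certG

Machine-generated data and the kernel checks on it.
-/

set_option maxRecDepth 100000
set_option Elab.async false

namespace CfsgLib.Sporadic.CosetCert.ONData

theorem certG_keys200 : certG.keysOK 800000 4000 = true := by decide +kernel
theorem certG_keys201 : certG.keysOK 804000 4000 = true := by decide +kernel
theorem certG_keys202 : certG.keysOK 808000 4000 = true := by decide +kernel
theorem certG_keys203 : certG.keysOK 812000 4000 = true := by decide +kernel
theorem certG_keys204 : certG.keysOK 816000 4000 = true := by decide +kernel
theorem certG_keys205 : certG.keysOK 820000 4000 = true := by decide +kernel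
theorem certG_keys206 : certG.keysOK 824000 4000 = true := by decide +kernel
theorem certG_keys207 : certG.keysOK 828000 4000 = true := by decide +kernel
theorem certG_keys208 : certG.keysOK 832000 4000 = true := by decide +kernel
theorem certG_keys209 : certG.keysOK 836000 4000 = true := by decide +kernel

end CfsgLib.Sporadic.CosetCert.ONData
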