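import Cfsg.Agent.Lib.Sporadic.ONData.ONCertGData

/-!
# Checks 21 of certG

Machine-generated data and the kernel checks on it.
-/

set_option maxRecDepth 100000
set_option Elab.async false

namespace CfsgLib.Sporadic.CosetCert.ONData

theorem certG_keys210 : certG.keysOK 840000 4000 = true := by decide +kernel
theorem certG_keys211 : certG.keysOK 844000 4000 = true := by decide +kernel
theorem certG_keys212 : certG.keysOK 848000 4000 = true := by decide +kernel
theorem certG_keys213 : certG.keysOK 852000 4000 = true := by decide +kernel
theorem certG_keys214 : certG.keysOK 856000 4000 = true := by decide +kernel
theorem certG_keys215 : certG.keysOK 860000 4000 = true := by decide +kernel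
theorem certG_keys216 : certG.keysOK 864000 4000 = true := by decide +kernel
theorem certG_keys217 : certG.keysOK 868000 4000 = true := by decide +kernel
theorem certG_keys218 : certG.keysOK 872000 4000 = true := by decide +kernel
theorem certG_keys219 : certG.keysOK 876000 4000 = true := by decide +kernel

end CfsgLib.Sporadic.CosetCert.ONData
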