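import Cfsg.Agent.Lib.Sporadic.ONData.ONCertGData

/-!
# Checks 22 of certG

Machine-generated data and the kernel checks on it.
-/

set_option maxRecDepth 100000
set_option Elab.async false

namespace CfsgLib.Sporadic.CosetCert.ONData

theorem certG_keys220 : certG.keysOK 880000 4000 = true := by decide +kernel
theorem certG_keys221 : certG.keysOK 884000 4000 = true := by decide +kernel
theorem certG_keys222 : certG.keysOK 888000 4000 = true := by decide +kernel
theorem certG_keys223 : certG.keysOK 892000 4000 = true := by decide +kernel
theorem certG_keys224 : certG.keysOK 896000 4000 = true := by decide +kernel
theorem certG_keys225 : certG.keysOK 900000 4000 = true := by decide +kernel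
theorem certG_keys226 : certG.keysOK 904000 4000 = true := by decide +kernel
theorem certG_keys227 : certG.keysOK 908000 4000 = true := by decide +kernel
theorem certG_keys228 : certG.keysOK 912000 4000 = true := by decide +kernel
theorem certG_keys229 : certG.keysOK 916000 4000 = true := by decide +kernel

end CfsgLib.Sporadic.CosetCert.ONData
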