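import Cfsg.Agent.Lib.Sporadic.ONData.ONCertGData

/-!
# Checks 24 of certG

Machine-generated data and the kernel checks on it.
-/

set_option maxRecDepth 100000
set_option Elab.async false

namespace CfsgLib.Sporadic.CosetCert.ONData

theorem certG_keys240 : certG.keysOK 960000 4000 = true := by decide +kernel
theorem certG_keys241 : certG.keysOK 964000 4000 = true := by decide +kernel
theorem certG_keys242 : certG.keysOK 968000 4000 = true := by decide +kernel
theorem certG_keys243 : certG.keysOK 972000 4000 = true := by decide +kernel
theorem certG_keys244 : certG.keysOK 976000 4000 = true := by decide +kernel
theorem certG_keys245 : certG.keysOK 980000 4000 = true := by decide +kernel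
theorem certG_keys246 : certG.keysOK 984000 4000 = true := by decide +kernel
theorem certG_keys247 : certG.keysOK 988000 4000 = true := by decide +kernel
theorem certG_keys248 : certG.keysOK 992000 4000 = true := by decide +kernel
theorem certG_keys249 : certG.keysOK 996000 4000 = true := by decide +kernel

end CfsgLib.Sporadic.CosetCert.ONData
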