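import Cfsg.Agent.Lib.Sporadic.ONData.ONCertGData

/-!
# Checks 25 of certG

Machine-generated data and the kernel checks on it.
-/

set_option maxRecDepth 100000
set_option Elab.async false

namespace CfsgLib.Sporadic.CosetCert.ONData

theorem certG_keys250 : certG.keysOK 1000000 4000 = true := by decide +kernel
theorem certG_keys251 : certG.keysOK 1004000 4000 = true := by decide +kernel
theorem certG_keys252 : certG.keysOK 1008000 4000 = true := by decide +kernel
theorem certG_keys253 : certG.keysOK 1012000 4000 = true := by decide +kernel
theorem certG_keys254 : certG.keysOK 1016000 4000 = true := by decide +kernel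
theorem certG_keys255 : certG.keysOK 1020000 4000 = true := by decide +kernel
theorem certG_keys256 : certG.keysOK 1024000 4000 = true := by decide +kernel
theorem certG_keys257 : certG.keysOK 1028000 4000 = true := by decide +kernel
theorem certG_keys258 : certG.keysOK 1032000 4000 = true := by decide +kernel
theorem certG_keys259 : certG.keysOK 1036000 4000 = true := by decide +kernel

end CfsgLib.Sporadic.CosetCert.ONData
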