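import Cfsg.Agent.Lib.Sporadic.ONData.ONCertGData

/-!
# Checks 26 of certG

Machine-generated data and the kernel checks on it.
-/

set_option maxRecDepth 100000
set_option Elab.async false

namespace CfsgLib.Sporadic.CosetCert.ONData

theorem certG_keys260 : certG.keysOK 1040000 4000 = true := by decide +kernel
theorem certG_keys261 : certG.keysOK 1044000 4000 = true := by decide +kernel
theorem certG_keys262 : certG.keysOK 1048000 4000 = true := by decide +kernel
theorem certG_keys263 : certG.keysOK 1052000 4000 = true := by decide +kernel
theorem certG_keys264 : certG.keysOK 1056000 4000 = true := by decide +kernel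
theorem certG_keys265 : certG.keysOK 1060000 4000 = true := by decide +kernel
theorem certG_keys266 : certG.keysOK 1064000 4000 = true := by decide +kernel
theorem certG_keys267 : certG.keysOK 1068000 4000 = true := by decide +kernel
theorem certG_keys268 : certG.keysOK 1072000 4000 = true := by decide +kernel
theorem certG_keys269 : certG.keysOK 1076000 4000 = true := by decide +kernel

end CfsgLib.Sporadic.CosetCert.ONData
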