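import Cfsg.Agent.Lib.Sporadic.ONData.ONCertGData

/-!
# Checks 27 of certG

Machine-generated data and the kernel checks on it.
-/

set_option maxRecDepth 100000
set_option Elab.async false

namespace CfsgLib.Sporadic.CosetCert.ONData

theorem certG_keys270 : certG.keysOK 1080000 4000 = true := by decide +kernel
theorem certG_keys271 : certG.keysOK 1084000 4000 = true := by decide +kernel
theorem certG_keys272 : certG.keysOK 1088000 4000 = true := by decide +kernel
theorem certG_keys273 : certG.keysOK 1092000 4000 = true := by decide +kernel
theorem certG_keys274 : certG.keysOK 1096000 4000 = true := by decide +kernel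
theorem certG_keys275 : certG.keysOK 1100000 4000 = true := by decide +kernel
theorem certG_keys276 : certG.keysOK 1104000 4000 = true := by decide +kernel
theorem certG_keys277 : certG.keysOK 1108000 4000 = true := by decide +kernel
theorem certG_keys278 : certG.keysOK 1112000 4000 = true := by decide +kernel
theorem certG_keys279 : certG.keysOK 1116000 4000 = true := by decide +kernel

end CfsgLib.Sporadic.CosetCert.ONData
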