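import Cfsg.Agent.Lib.Sporadic.ONData.ONCertGData

/-!
# Checks 28 of certG

Machine-generated data and the kernel checks on it.
-/

set_option maxRecDepth 100000
set_option Elab.async false

namespace CfsgLib.Sporadic.CosetCert.ONData

theorem certG_keys280 : certG.keysOK 1120000 4000 = true := by decide +kernel
theorem certG_keys281 : certG.keysOK 1124000 4000 = true := by decide +kernel
theorem certG_keys282 : certG.keysOK 1128000 4000 = true := by decide +kernel
theorem certG_keys283 : certG.keysOK 1132000 4000 = true := by decide +kernel
theorem certG_keys284 : certG.keysOK 1136000 4000 = true := by decide +kernel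
theorem certG_keys285 : certG.keysOK 1140000 4000 = true := by decide +kernel
theorem certG_keys286 : certG.keysOK 1144000 4000 = true := by decide +kernel
theorem certG_keys287 : certG.keysOK 1148000 4000 = true := by decide +kernel
theorem certG_keys288 : certG.keysOK 1152000 4000 = true := by decide +kernel
theorem certG_keys289 : certG.keysOK 1156000 4000 = true := by decide +kernel

end CfsgLib.Sporadic.CosetCert.ONData
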