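import Cfsg.Agent.Lib.Sporadic.ONData.ONCertGData

/-!
# Checks 29 of certG

Machine-generated data and the kernel checks on it.
-/

set_option maxRecDepth 100000
set_option Elab.async false

namespace CfsgLib.Sporadic.CosetCert.ONData

theorem certG_keys290 : certG.keysOK 1160000 4000 = true := by decide +kernel
theorem certG_keys291 : certG.keysOK 1164000 4000 = true := by decide +kernel
theorem certG_keys292 : certG.keysOK 1168000 4000 = true := by decide +kernel
theorem certG_keys293 : certG.keysOK 1172000 4000 = true := by decide +kernel
theorem certG_keys294 : certG.keysOK 1176000 4000 = true := by decide +kernel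
theorem certG_keys295 : certG.keysOK 1180000 4000 = true := by decide +kernel
theorem certG_keys296 : certG.keysOK 1184000 4000 = true := by decide +kernel
theorem certG_keys297 : certG.keysOK 1188000 4000 = true := by decide +kernel
theorem certG_keys298 : certG.keysOK 1192000 4000 = true := by decide +kernel
theorem certG_keys299 : certG.keysOK 1196000 4000 = true := by decide +kernel

end CfsgLib.Sporadic.CosetCert.ONData
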