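import Cfsg.Agent.Lib.Sporadic.ONData.ONCertGData

/-!
# Checks 3 of certG

Machine-generated data and the kernel checks on it.
-/

set_option maxRecDepth 100000
set_option Elab.async false

namespace CfsgLib.Sporadic.CosetCert.ONData

theorem certG_keys30 : certG.keysOK 120000 4000 = true := by decide +kernel
theorem certG_keys31 : certG.keysOK 124000 4000 = true := by decide +kernel
theorem certG_keys32 : certG.keysOK 128000 4000 = true := by decide +kernel
theorem certG_keys33 : certG.keysOK 132000 4000 = true := by decide +kernel
theorem certG_keys34 : certG.keysOK 136000 4000 = true := by decide +kernel
theorem certG_keys35 : certG.keysOK 140000 4000 = true := by decide +kernel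
theorem certG_keys36 : certG.keysOK 144000 4000 = true := by decide +kernel
theorem certG_keys37 : certG.keysOK 148000 4000 = true := by decide +kernel
theorem certG_keys38 : certG.keysOK 152000 4000 = true := by decide +kernel
theorem certG_keys39 : certG.keysOK 156000 4000 = true := by decide +kernel

end CfsgLib.Sporadic.CosetCert.ONData
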