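import Cfsg.Agent.Lib.Sporadic.ONData.ONCertGData

/-!
# Checks 30 of certG

Machine-generated data and the kernel checks on it.
-/

set_option maxRecDepth 100000
set_option Elab.async false

namespace CfsgLib.Sporadic.CosetCert.ONData

theorem certG_keys300 : certG.keysOK 1200000 4000 = true := by decide +kernel
theorem certG_keys301 : certG.keysOK 1204000 4000 = true := by decide +kernel
theorem certG_keys302 : certG.keysOK 1208000 4000 = true := by decide +kernel
theorem certG_keys303 : certG.keysOK 1212000 4000 = true := by decide +kernel
theorem certG_keys304 : certG.keysOK 1216000 4000 = true := by decide +kernel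
theorem certG_keys305 : certG.keysOK 1220000 4000 = true := by decide +kernel
theorem certG_keys306 : certG.keysOK 1224000 4000 = true := by decide +kernel
theorem certG_keys307 : certG.keysOK 1228000 4000 = true := by decide +kernel
theorem certG_keys308 : certG.keysOK 1232000 4000 = true := by decide +kernel
theorem certG_keys309 : certG.keysOK 1236000 4000 = true := by decide +kernel

end CfsgLib.Sporadic.CosetCert.ONData
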