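import Cfsg.Agent.Lib.Sporadic.ONData.ONCertGData

/-!
# Checks 31 of certG

Machine-generated data and the kernel checks on it.
-/

set_option maxRecDepth 100000
set_option Elab.async false

namespace CfsgLib.Sporadic.CosetCert.ONData

theorem certG_keys310 : certG.keysOK 1240000 4000 = true := by decide +kernel
theorem certG_keys311 : certG.keysOK 1244000 4000 = true := by decide +kernel
theorem certG_keys312 : certG.keysOK 1248000 4000 = true := by decide +kernel
theorem certG_keys313 : certG.keysOK 1252000 4000 = true := by decide +kernel
theorem certG_keys314 : certG.keysOK 1256000 4000 = true := by decide +kernel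
theorem certG_keys315 : certG.keysOK 1260000 4000 = true := by decide +kernel
theorem certG_keys316 : certG.keysOK 1264000 4000 = true := by decide +kernel
theorem certG_keys317 : certG.keysOK 1268000 4000 = true := by decide +kernel
theorem certG_keys318 : certG.keysOK 1272000 4000 = true := by decide +kernel
theorem certG_keys319 : certG.keysOK 1276000 4000 = true := by decide +kernel

end CfsgLib.Sporadic.CosetCert.ONData
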