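import Cfsg.Agent.Lib.Sporadic.ONData.ONCertGData

/-!
# Checks 32 of certG

Machine-generated data and the kernel checks on it.
-/

set_option maxRecDepth 100000
set_option Elab.async false

namespace CfsgLib.Sporadic.CosetCert.ONData

theorem certG_keys320 : certG.keysOK 1280000 4000 = true := by decide +kernel
theorem certG_keys321 : certG.keysOK 1284000 4000 = true := by decide +kernel
theorem certG_keys322 : certG.keysOK 1288000 4000 = true := by decide +kernel
theorem certG_keys323 : certG.keysOK 1292000 4000 = true := by decide +kernel
theorem certG_keys324 : certG.keysOK 1296000 4000 = true := by decide +kernel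
theorem certG_keys325 : certG.keysOK 1300000 4000 = true := by decide +kernel
theorem certG_keys326 : certG.keysOK 1304000 4000 = true := by decide +kernel
theorem certG_keys327 : certG.keysOK 1308000 4000 = true := by decide +kernel
theorem certG_keys328 : certG.keysOK 1312000 4000 = true := by decide +kernel
theorem certG_keys329 : certG.keysOK 1316000 4000 = true := by decide +kernel

end CfsgLib.Sporadic.CosetCert.ONData
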