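import Cfsg.Agent.Lib.Sporadic.ONData.ONCertGData

/-!
# Checks 33 of certG

Machine-generated data and the kernel checks on it.
-/

set_option maxRecDepth 100000
set_option Elab.async false

namespace CfsgLib.Sporadic.CosetCert.ONData

theorem certG_keys330 : certG.keysOK 1320000 4000 = true := by decide +kernel
theorem certG_keys331 : certG.keysOK 1324000 4000 = true := by decide +kernel
theorem certG_keys332 : certG.keysOK 1328000 4000 = true := by decide +kernel
theorem certG_keys333 : certG.keysOK 1332000 4000 = true := by decide +kernel
theorem certG_keys334 : certG.keysOK 1336000 4000 = true := by decide +kernel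
theorem certG_keys335 : certG.keysOK 1340000 4000 = true := by decide +kernel
theorem certG_keys336 : certG.keysOK 1344000 4000 = true := by decide +kernel
theorem certG_keys337 : certG.keysOK 1348000 4000 = true := by decide +kernel
theorem certG_keys338 : certG.keysOK 1352000 4000 = true := by decide +kernel
theorem certG_keys339 : certG.keysOK 1356000 4000 = true := by decide +kernel

end CfsgLib.Sporadic.CosetCert.ONData
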