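import Cfsg.Agent.Lib.Sporadic.ONData.ONCertGData

/-!
# Checks 34 of certG

Machine-generated data and the kernel checks on it.
-/

set_option maxRecDepth 100000
set_option Elab.async false

namespace CfsgLib.Sporadic.CosetCert.ONData

theorem certG_keys340 : certG.keysOK 1360000 4000 = true := by decide +kernel
theorem certG_keys341 : certG.keysOK 1364000 4000 = true := by decide +kernel
theorem certG_keys342 : certG.keysOK 1368000 4000 = true := by decide +kernel
theorem certG_keys343 : certG.keysOK 1372000 4000 = true := by decide +kernel
theorem certG_keys344 : certG.keysOK 1376000 4000 = true := by decide +kernel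
theorem certG_keys345 : certG.keysOK 1380000 4000 = true := by decide +kernel
theorem certG_keys346 : certG.keysOK 1384000 4000 = true := by decide +kernel
theorem certG_keys347 : certG.keysOK 1388000 4000 = true := by decide +kernel
theorem certG_keys348 : certG.keysOK 1392000 4000 = true := by decide +kernel
theorem certG_keys349 : certG.keysOK 1396000 4000 = true := by decide +kernel

end CfsgLib.Sporadic.CosetCert.ONData
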