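import Cfsg.Agent.Lib.Sporadic.ONData.ONCertGData

/-!
# Checks 36 of certG

Machine-generated data and the kernel checks on it.
-/

set_option maxRecDepth 100000
set_option Elab.async false

namespace CfsgLib.Sporadic.CosetCert.ONData

theorem certG_keys360 : certG.keysOK 1440000 4000 = true := by decide +kernel
theorem certG_keys361 : certG.keysOK 1444000 4000 = true := by decide +kernel
theorem certG_keys362 : certG.keysOK 1448000 4000 = true := by decide +kernel
theorem certG_keys363 : certG.keysOK 1452000 4000 = true := by decide +kernel
theorem certG_keys364 : certG.keysOK 1456000 4000 = true := by decide +kernel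
theorem certG_keys365 : certG.keysOK 1460000 4000 = true := by decide +kernel
theorem certG_keys366 : certG.keysOK 1464000 4000 = true := by decide +kernel
theorem certG_keys367 : certG.keysOK 1468000 4000 = true := by decide +kernel
theorem certG_keys368 : certG.keysOK 1472000 1723 = true := by decide +kernel
theorem certG_closed0 : certG.closedFrom 1143062 0 4000 = true := by decide +kernel

end CfsgLib.Sporadic.CosetCert.ONData
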