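import Cfsg.Agent.Lib.Sporadic.ONData.ONCertGData

/-!
# Checks 38 of certG

Machine-generated data and the kernel checks on it.
-/

set_option maxRecDepth 100000
set_option Elab.async false

namespace CfsgLib.Sporadic.CosetCert.ONData

theorem certG_closed11 : certG.closedFrom 1143062 44000 4000 = true := by decide +kernel
theorem certG_closed12 : certG.closedFrom 1143062 48000 4000 = true := by decide +kernel
theorem certG_closed13 : certG.closedFrom 1143062 52000 4000 = true := by decide +kernel
theorem certG_closed14 : certG.closedFrom 1143062 56000 4000 = true := by decide +kernel
theorem certG_closed15 : certG.closedFrom 1143062 60000 4000 = true := by decide +kernel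
theorem certG_closed16 : certG.closedFrom 1143062 64000 4000 = true := by decide +kernel
theorem certG_closed17 : certG.closedFrom 1143062 68000 4000 = true := by decide +kernel
theorem certG_closed18 : certG.closedFrom 1143062 72000 4000 = true := by decide +kernel
theorem certG_closed19 : certG.closedFrom 1143062 76000 4000 = true := by decide +kernel
theorem certG_closed20 : certG.closedFrom 1143062 80000 4000 = true := by decide +kernel

end CfsgLib.Sporadic.CosetCert.ONData
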