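import Cfsg.Agent.Lib.Sporadic.ONData.ONCertGData

/-!
# Checks 39 of certG

Machine-generated data and the kernel checks on it.
-/

set_option maxRecDepth 100000
set_option Elab.async false

namespace CfsgLib.Sporadic.CosetCert.ONData

theorem certG_closed21 : certG.closedFrom 1143062 84000 4000 = true := by decide +kernel
theorem certG_closed22 : certG.closedFrom 1143062 88000 4000 = true := by decide +kernel
theorem certG_closed23 : certG.closedFrom 1143062 92000 4000 = true := by decide +kernel
theorem certG_closed24 : certG.closedFrom 1143062 96000 4000 = true := by decide +kernel
theorem certG_closed25 : certG.closedFrom 1143062 100000 4000 = true := by decide +kernel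
theorem certG_closed26 : certG.closedFrom 1143062 104000 4000 = true := by decide +kernel
theorem certG_closed27 : certG.closedFrom 1143062 108000 4000 = true := by decide +kernel
theorem certG_closed28 : certG.closedFrom 1143062 112000 4000 = true := by decide +kernel
theorem certG_closed29 : certG.closedFrom 1143062 116000 4000 = true := by decide +kernel
theorem certG_closed30 : certG.closedFrom 1143062 120000 2760 = true := by decide +kernel

end CfsgLib.Sporadic.CosetCert.ONData
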