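import Cfsg.Agent.Lib.Sporadic.ONData.ONCertGData

/-!
# Checks 4 of certG

Machine-generated data and the kernel checks on it.
-/

set_option maxRecDepth 100000
set_option Elab.async false

namespace CfsgLib.Sporadic.CosetCert.ONData

theorem certG_keys40 : certG.keysOK 160000 4000 = true := by decide +kernel
theorem certG_keys41 : certG.keysOK 164000 4000 = true := by decide +kernel
theorem certG_keys42 : certG.keysOK 168000 4000 = true := by decide +kernel
theorem certG_keys43 : certG.keysOK 172000 4000 = true := by decide +kernel
theorem certG_keys44 : certG.keysOK 176000 4000 = true := by decide +kernel
theorem certG_keys45 : certG.keysOK 180000 4000 = true := by decide +kernel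
theorem certG_keys46 : certG.keysOK 184000 4000 = true := by decide +kernel
theorem certG_keys47 : certG.keysOK 188000 4000 = true := by decide +kernel
theorem certG_keys48 : certG.keysOK 192000 4000 = true := by decide +kernel
theorem certG_keys49 : certG.keysOK 196000 4000 = true := by decide +kernel

end CfsgLib.Sporadic.CosetCert.ONData
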