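import Cfsg.Agent.Lib.Sporadic.ONData.ONCertGData

/-!
# Checks 5 of certG

Machine-generated data and the kernel checks on it.
-/

set_option maxRecDepth 100000
set_option Elab.async false

namespace CfsgLib.Sporadic.CosetCert.ONData

theorem certG_keys50 : certG.keysOK 200000 4000 = true := by decide +kernel
theorem certG_keys51 : certG.keysOK 204000 4000 = true := by decide +kernel
theorem certG_keys52 : certG.keysOK 208000 4000 = true := by decide +kernel
theorem certG_keys53 : certG.keysOK 212000 4000 = true := by decide +kernel
theorem certG_keys54 : certG.keysOK 216000 4000 = true := by decide +kernel
theorem certG_keys55 : certG.keysOK 220000 4000 = true := by decide +kernel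
theorem certG_keys56 : certG.keysOK 224000 4000 = true := by decide +kernel
theorem certG_keys57 : certG.keysOK 228000 4000 = true := by decide +kernel
theorem certG_keys58 : certG.keysOK 232000 4000 = true := by decide +kernel
theorem certG_keys59 : certG.keysOK 236000 4000 = true := by decide +kernel

end CfsgLib.Sporadic.CosetCert.ONData
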