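import Cfsg.Agent.Lib.Sporadic.ONData.ONCertGData

/-!
# Checks 6 of certG

Machine-generated data and the kernel checks on it.
-/

set_option maxRecDepth 100000
set_option Elab.async false

namespace CfsgLib.Sporadic.CosetCert.ONData

theorem certG_keys60 : certG.keysOK 240000 4000 = true := by decide +kernel
theorem certG_keys61 : certG.keysOK 244000 4000 = true := by decide +kernel
theorem certG_keys62 : certG.keysOK 248000 4000 = true := by decide +kernel
theorem certG_keys63 : certG.keysOK 252000 4000 = true := by decide +kernel
theorem certG_keys64 : certG.keysOK 256000 4000 = true := by decide +kernel
theorem certG_keys65 : certG.keysOK 260000 4000 = true := by decide +kernel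
theorem certG_keys66 : certG.keysOK 264000 4000 = true := by decide +kernel
theorem certG_keys67 : certG.keysOK 268000 4000 = true := by decide +kernel
theorem certG_keys68 : certG.keysOK 272000 4000 = true := by decide +kernel
theorem certG_keys69 : certG.keysOK 276000 4000 = true := by decide +kernel

end CfsgLib.Sporadic.CosetCert.ONData
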