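import Cfsg.Agent.Lib.Sporadic.ONData.ONCertGData

/-!
# Checks 7 of certG

Machine-generated data and the kernel checks on it.
-/

set_option maxRecDepth 100000
set_option Elab.async false

namespace CfsgLib.Sporadic.CosetCert.ONData

theorem certG_keys70 : certG.keysOK 280000 4000 = true := by decide +kernel
theorem certG_keys71 : certG.keysOK 284000 4000 = true := by decide +kernel
theorem certG_keys72 : certG.keysOK 288000 4000 = true := by decide +kernel
theorem certG_keys73 : certG.keysOK 292000 4000 = true := by decide +kernel
theorem certG_keys74 : certG.keysOK 296000 4000 = true := by decide +kernel
theorem certG_keys75 : certG.keysOK 300000 4000 = true := by decide +kernel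
theorem certG_keys76 : certG.keysOK 304000 4000 = true := by decide +kernel
theorem certG_keys77 : certG.keysOK 308000 4000 = true := by decide +kernel
theorem certG_keys78 : certG.keysOK 312000 4000 = true := by decide +kernel
theorem certG_keys79 : certG.keysOK 316000 4000 = true := by decide +kernel

end CfsgLib.Sporadic.CosetCert.ONData
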