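import Cfsg.Agent.Lib.Sporadic.ONData.ONCertGData

/-!
# Checks 8 of certG

Machine-generated data and the kernel checks on it.
-/

set_option maxRecDepth 100000
set_option Elab.async false

namespace CfsgLib.Sporadic.CosetCert.ONData

theorem certG_keys80 : certG.keysOK 320000 4000 = true := by decide +kernel
theorem certG_keys81 : certG.keysOK 324000 4000 = true := by decide +kernel
theorem certG_keys82 : certG.keysOK 328000 4000 = true := by decide +kernel
theorem certG_keys83 : certG.keysOK 332000 4000 = true := by decide +kernel
theorem certG_keys84 : certG.keysOK 336000 4000 = true := by decide +kernel
theorem certG_keys85 : certG.keysOK 340000 4000 = true := by decide +kernel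
theorem certG_keys86 : certG.keysOK 344000 4000 = true := by decide +kernel
theorem certG_keys87 : certG.keysOK 348000 4000 = true := by decide +kernel
theorem certG_keys88 : certG.keysOK 352000 4000 = true := by decide +kernel
theorem certG_keys89 : certG.keysOK 356000 4000 = true := by decide +kernel

end CfsgLib.Sporadic.CosetCert.ONData
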