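import Cfsg.Agent.Lib.Sporadic.ONData.ONCertGData

/-!
# Checks 9 of certG

Machine-generated data and the kernel checks on it.
-/

set_option maxRecDepth 100000
set_option Elab.async false

namespace CfsgLib.Sporadic.CosetCert.ONData

theorem certG_keys90 : certG.keysOK 360000 4000 = true := by decide +kernel
theorem certG_keys91 : certG.keysOK 364000 4000 = true := by decide +kernel
theorem certG_keys92 : certG.keysOK 368000 4000 = true := by decide +kernel
theorem certG_keys93 : certG.keysOK 372000 4000 = true := by decide +kernel
theorem certG_keys94 : certG.keysOK 376000 4000 = true := by decide +kernel
theorem certG_keys95 : certG.keysOK 380000 4000 = true := by decide +kernel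
theorem certG_keys96 : certG.keysOK 384000 4000 = true := by decide +kernel
theorem certG_keys97 : certG.keysOK 388000 4000 = true := by decide +kernel
theorem certG_keys98 : certG.keysOK 392000 4000 = true := by decide +kernel
theorem certG_keys99 : certG.keysOK 396000 4000 = true := by decide +kernel

end CfsgLib.Sporadic.CosetCert.ONData
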