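import Cfsg.Agent.Lib.Sporadic.ONData.ONCertGCheck0
import Cfsg.Agent.Lib.Sporadic.ONData.ONCertGCheck1
import Cfsg.Agent.Lib.Sporadic.ONData.ONCertGCheck2
import Cfsg.Agent.Lib.Sporadic.ONData.ONCertGCheck3
import Cfsg.Agent.Lib.Sporadic.ONData.ONCertGCheck4
import Cfsg.Agent.Lib.Sporadic.ONData.ONCertGCheck5
import Cfsg.Agent.Lib.Sporadic.ONData.ONCertGCheck6
import Cfsg.Agent.Lib.Sporadic.ONData.ONCertGCheck7
import Cfsg.Agent.Lib.Sporadic.ONData.ONCertGCheck8
import Cfsg.Agent.Lib.Sporadic.ONData.ONCertGCheck9
import Cfsg.Agent.Lib.Sporadic.ONData.ONCertGCheck10
import Cfsg.Agent.Lib.Sporadic.ONData.ONCertGCheck11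
import Cfsg.Agent.Lib.Sporadic.ONData.ONCertGCheck12
import Cfsg.Agent.Lib.Sporadic.ONData.ONCertGCheck13
import Cfsg.Agent.Lib.Sporadic.ONData.ONCertGCheck14
import Cfsg.Agent.Lib.Sporadic.ONData.ONCertGCheck15
import Cfsg.Agent.Lib.Sporadic.ONData.ONCertGCheck16
import Cfsg.Agent.Lib.Sporadic.ONData.ONCertGCheck17
import Cfsg.Agent.Lib.Sporadic.ONData.ONCertGCheck18
import Cfsg.Agent.Lib.Sporadic.ONData.ONCertGCheck19
import Cfsg.Agent.Lib.Sporadic.ONData.ONCertGCheck20
import Cfsg.Agent.Lib.Sporadic.ONData.ONCertGCheck21
import Cfsg.Agent.Lib.Sporadic.ONData.ONCertGCheck22
import Cfsg.Agent.Lib.Sporadic.ONData.ONCertGCheck23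
import Cfsg.Agent.Lib.Sporadic.ONData.ONCertGCheck24
import Cfsg.Agent.Lib.Sporadic.ONData.ONCertGCheck25
import Cfsg.Agent.Lib.Sporadic.ONData.ONCertGCheck26
import Cfsg.Agent.Lib.Sporadic.ONData.ONCertGCheck27
import Cfsg.Agent.Lib.Sporadic.ONData.ONCertGCheck28
import Cfsg.Agent.Lib.Sporadic.ONData.ONCertGCheck29
import Cfsg.Agent.Lib.Sporadic.ONData.ONCertGCheck30
import Cfsg.Agent.Lib.Sporadic.ONData.ONCertGCheck31
import Cfsg.Agent.Lib.Sporadic.ONData.ONCertGCheck32
import Cfsg.Agent.Lib.Sporadic.ONData.ONCertGCheck33
import Cfsg.Agent.Lib.Sporadic.ONData.ONCertGCheck34
import Cfsg.Agent.Lib.Sporadic.ONData.ONCertGCheck35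
import Cfsg.Agent.Lib.Sporadic.ONData.ONCertGCheck36
import Cfsg.Agent.Lib.Sporadic.ONData.ONCertGCheck37
import Cfsg.Agent.Lib.Sporadic.ONData.ONCertGCheck38
import Cfsg.Agent.Lib.Sporadic.ONData.ONCertGCheck39

/-!
# Validity of certG

Machine-generated data and the kernel checks on it.
-/

set_option maxRecDepth 100000
set_option Elab.async false

namespace CfsgLib.Sporadic.CosetCert.ONData

theorem certG_valid : certG.Valid :=
  valid_of
    (fun k hk => (range_split (range_split (range_split (range_split (range_split (range_split (range_split (range_split (keysOK_spec certG_keys0) (keysOK_spec certG_keys1)) (range_split (keysOK_spec certG_keys2) (range_split (keysOK_spec certG_keys3) (keysOK_spec certG_keys4)))) (range_split (range_split (keysOK_spec certG_keys5) (range_split (keysOK_spec certG_keys6) (keysOK_spec certG_keys7))) (range_split (keysOK_spec certG_keys8) (range_split (keysOK_spec certG_keys9) (keysOK_spec certG_keys10))))) (range_split (range_split (range_split (keysOK_spec certG_keys11) (range_split (keysOK_spec certG_keys12) (keysOK_spec certG_keys13))) (range_split (keysOK_spec certG_keys14) (range_split (keysOK_spec certG_keys15) (keysOK_spec certG_keys16)))) (range_split (range_split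 (keysOK_spec certG_keys17) (range_split (keysOK_spec certG_keys18) (keysOK_spec certG_keys19))) (range_split (keysOK_spec certG_keys20) (range_split (keysOK_spec certG_keys21) (keysOK_spec certG_keys22)))))) (range_split (range_split (range_split (range_split (keysOK_spec certG_keys23) (keysOK_spec certG_keys24)) (range_split (keysOK_spec certG_keys25) (range_split (keysOK_spec certG_keys26) (keysOK_spec certG_keys27)))) (range_split (range_split (keysOK_spec certG_keys28) (range_split (keysOK_spec certG_keys29) (keysOK_spec certG_keys30))) (range_split (keysOK_spec certG_keys31) (range_split (keysOK_spec certG_keys32) (keysOK_spec certG_keys33))))) (range_split (range_split (range_split (keysOK_spec certG_keys34) (range_split (keysOK_spec certG_keys35) (keysOK_spec certG_keys36))) (range_split (keysOK_spec certG_keys37) (range_split (keysOK_spec certG_keys38) (keysOK_spec certG_keys39)))) (range_split (range_split (keysOK_spec certG_keys40) (range_split (keysOK_spec certG_keys41) (keysOK_spec certG_keys42))) (range_split (keysOK_spec certG_keys43) (range_split (keysOK_spec certG_keys44) (keysOK_spec certG_keys45))))))) (range_split (range_split (range_split (range_split (range_split (keysOK_spec certG_keys46)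 (keysOK_spec certG_keys47)) (range_split (keysOK_spec certG_keys48) (range_split (keysOK_spec certG_keys49) (keysOK_spec certG_keys50)))) (range_split (range_split (keysOK_spec certG_keys51) (range_split (keysOK_spec certG_keys52) (keysOK_spec certG_keys53))) (range_split (keysOK_spec certG_keys54) (range_split (keysOK_spec certG_keys55) (keysOK_spec certG_keys56))))) (range_split (range_split (range_split (keysOK_spec certG_keys57) (range_split (keysOK_spec certG_keys58) (keysOK_spec certG_keys59))) (range_split (keysOK_spec certG_keys60) (range_split (keysOK_spec certG_keys61) (keysOK_spec certG_keys62)))) (range_split (range_split (keysOK_spec certG_keys63) (range_split (keysOK_spec certG_keys64) (keysOK_spec certG_keys65))) (range_split (keysOK_spec certG_keys66) (range_split (keysOK_spec certG_keys67) (keysOK_spec certG_keys68)))))) (range_split (range_split (range_split (range_split (keysOK_spec certG_keys69) (keysOK_spec certG_keys70)) (range_split (keysOK_spec certG_keys71) (range_split (keysOK_spec certG_keys72) (keysOK_spec certG_keys73)))) (range_split (range_split (keysOK_spec certG_keys74) (range_split (keysOK_spec certG_keys75) (keysOK_spec certG_keys76))) (range_split (keysOK_spec certG_keys77)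 (range_split (keysOK_spec certG_keys78) (keysOK_spec certG_keys79))))) (range_split (range_split (range_split (keysOK_spec certG_keys80) (range_split (keysOK_spec certG_keys81) (keysOK_spec certG_keys82))) (range_split (keysOK_spec certG_keys83) (range_split (keysOK_spec certG_keys84) (keysOK_spec certG_keys85)))) (range_split (range_split (keysOK_spec certG_keys86) (range_split (keysOK_spec certG_keys87) (keysOK_spec certG_keys88))) (range_split (keysOK_spec certG_keys89) (range_split (keysOK_spec certG_keys90) (keysOK_spec certG_keys91)))))))) (range_split (range_split (range_split (range_split (range_split (range_split (keysOK_spec certG_keys92) (keysOK_spec certG_keys93)) (range_split (keysOK_spec certG_keys94) (range_split (keysOK_spec certG_keys95) (keysOK_spec certG_keys96)))) (range_split (range_split (keysOK_spec certG_keys97) (range_split (keysOK_spec certG_keys98) (keysOK_spec certG_keys99))) (range_split (keysOK_spec certG_keys100) (range_split (keysOK_spec certG_keys101) (keysOK_spec certG_keys102))))) (range_split (range_split (range_split (keysOK_spec certG_keys103) (range_split (keysOK_spec certG_keys104) (keysOK_spec certG_keys105))) (range_split (keysOK_spec certG_keys106) (range_split (keysOK_spec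 certG_keys107) (keysOK_spec certG_keys108)))) (range_split (range_split (keysOK_spec certG_keys109) (range_split (keysOK_spec certG_keys110) (keysOK_spec certG_keys111))) (range_split (keysOK_spec certG_keys112) (range_split (keysOK_spec certG_keys113) (keysOK_spec certG_keys114)))))) (range_split (range_split (range_split (range_split (keysOK_spec certG_keys115) (keysOK_spec certG_keys116)) (range_split (keysOK_spec certG_keys117) (range_split (keysOK_spec certG_keys118) (keysOK_spec certG_keys119)))) (range_split (range_split (keysOK_spec certG_keys120) (range_split (keysOK_spec certG_keys121) (keysOK_spec certG_keys122))) (range_split (keysOK_spec certG_keys123) (range_split (keysOK_spec certG_keys124) (keysOK_spec certG_keys125))))) (range_split (range_split (range_split (keysOK_spec certG_keys126) (range_split (keysOK_spec certG_keys127) (keysOK_spec certG_keys128))) (range_split (keysOK_spec certG_keys129) (range_split (keysOK_spec certG_keys130) (keysOK_spec certG_keys131)))) (range_split (range_split (keysOK_spec certG_keys132) (range_split (keysOK_spec certG_keys133) (keysOK_spec certG_keys134))) (range_split (keysOK_spec certG_keys135) (range_split (keysOK_spec certG_keys136) (keysOK_spec certG_keys137)))))))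 (range_split (range_split (range_split (range_split (range_split (keysOK_spec certG_keys138) (keysOK_spec certG_keys139)) (range_split (keysOK_spec certG_keys140) (range_split (keysOK_spec certG_keys141) (keysOK_spec certG_keys142)))) (range_split (range_split (keysOK_spec certG_keys143) (range_split (keysOK_spec certG_keys144) (keysOK_spec certG_keys145))) (range_split (keysOK_spec certG_keys146) (range_split (keysOK_spec certG_keys147) (keysOK_spec certG_keys148))))) (range_split (range_split (range_split (keysOK_spec certG_keys149) (range_split (keysOK_spec certG_keys150) (keysOK_spec certG_keys151))) (range_split (keysOK_spec certG_keys152) (range_split (keysOK_spec certG_keys153) (keysOK_spec certG_keys154)))) (range_split (range_split (keysOK_spec certG_keys155) (range_split (keysOK_spec certG_keys156) (keysOK_spec certG_keys157))) (range_split (keysOK_spec certG_keys158) (range_split (keysOK_spec certG_keys159) (keysOK_spec certG_keys160)))))) (range_split (range_split (range_split (range_split (keysOK_spec certG_keys161) (keysOK_spec certG_keys162)) (range_split (keysOK_spec certG_keys163) (range_split (keysOK_spec certG_keys164) (keysOK_spec certG_keys165)))) (range_split (range_split (keysOK_spec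 certG_keys166) (range_split (keysOK_spec certG_keys167) (keysOK_spec certG_keys168))) (range_split (keysOK_spec certG_keys169) (range_split (keysOK_spec certG_keys170) (keysOK_spec certG_keys171))))) (range_split (range_split (range_split (keysOK_spec certG_keys172) (range_split (keysOK_spec certG_keys173) (keysOK_spec certG_keys174))) (range_split (keysOK_spec certG_keys175) (range_split (keysOK_spec certG_keys176) (keysOK_spec certG_keys177)))) (range_split (range_split (keysOK_spec certG_keys178) (range_split (keysOK_spec certG_keys179) (keysOK_spec certG_keys180))) (range_split (keysOK_spec certG_keys181) (range_split (keysOK_spec certG_keys182) (keysOK_spec certG_keys183))))))))) (range_split (range_split (range_split (range_split (range_split (range_split (range_split (keysOK_spec certG_keys184) (keysOK_spec certG_keys185)) (range_split (keysOK_spec certG_keys186) (range_split (keysOK_spec certG_keys187) (keysOK_spec certG_keys188)))) (range_split (range_split (keysOK_spec certG_keys189) (range_split (keysOK_spec certG_keys190) (keysOK_spec certG_keys191))) (range_split (keysOK_spec certG_keys192) (range_split (keysOK_spec certG_keys193) (keysOK_spec certG_keys194))))) (range_split (range_split (range_split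 (keysOK_spec certG_keys195) (range_split (keysOK_spec certG_keys196) (keysOK_spec certG_keys197))) (range_split (keysOK_spec certG_keys198) (range_split (keysOK_spec certG_keys199) (keysOK_spec certG_keys200)))) (range_split (range_split (keysOK_spec certG_keys201) (range_split (keysOK_spec certG_keys202) (keysOK_spec certG_keys203))) (range_split (keysOK_spec certG_keys204) (range_split (keysOK_spec certG_keys205) (keysOK_spec certG_keys206)))))) (range_split (range_split (range_split (range_split (keysOK_spec certG_keys207) (keysOK_spec certG_keys208)) (range_split (keysOK_spec certG_keys209) (range_split (keysOK_spec certG_keys210) (keysOK_spec certG_keys211)))) (range_split (range_split (keysOK_spec certG_keys212) (range_split (keysOK_spec certG_keys213) (keysOK_spec certG_keys214))) (range_split (keysOK_spec certG_keys215) (range_split (keysOK_spec certG_keys216) (keysOK_spec certG_keys217))))) (range_split (range_split (range_split (keysOK_spec certG_keys218) (range_split (keysOK_spec certG_keys219) (keysOK_spec certG_keys220))) (range_split (keysOK_spec certG_keys221) (range_split (keysOK_spec certG_keys222) (keysOK_spec certG_keys223)))) (range_split (range_split (keysOK_spec certG_keys224) (range_split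 (keysOK_spec certG_keys225) (keysOK_spec certG_keys226))) (range_split (keysOK_spec certG_keys227) (range_split (keysOK_spec certG_keys228) (keysOK_spec certG_keys229))))))) (range_split (range_split (range_split (range_split (range_split (keysOK_spec certG_keys230) (keysOK_spec certG_keys231)) (range_split (keysOK_spec certG_keys232) (range_split (keysOK_spec certG_keys233) (keysOK_spec certG_keys234)))) (range_split (range_split (keysOK_spec certG_keys235) (range_split (keysOK_spec certG_keys236) (keysOK_spec certG_keys237))) (range_split (keysOK_spec certG_keys238) (range_split (keysOK_spec certG_keys239) (keysOK_spec certG_keys240))))) (range_split (range_split (range_split (keysOK_spec certG_keys241) (range_split (keysOK_spec certG_keys242) (keysOK_spec certG_keys243))) (range_split (keysOK_spec certG_keys244) (range_split (keysOK_spec certG_keys245) (keysOK_spec certG_keys246)))) (range_split (range_split (keysOK_spec certG_keys247) (range_split (keysOK_spec certG_keys248) (keysOK_spec certG_keys249))) (range_split (keysOK_spec certG_keys250) (range_split (keysOK_spec certG_keys251) (keysOK_spec certG_keys252)))))) (range_split (range_split (range_split (range_split (keysOK_spec certG_keys253) (keysOK_spec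 certG_keys254)) (range_split (keysOK_spec certG_keys255) (range_split (keysOK_spec certG_keys256) (keysOK_spec certG_keys257)))) (range_split (range_split (keysOK_spec certG_keys258) (range_split (keysOK_spec certG_keys259) (keysOK_spec certG_keys260))) (range_split (keysOK_spec certG_keys261) (range_split (keysOK_spec certG_keys262) (keysOK_spec certG_keys263))))) (range_split (range_split (range_split (keysOK_spec certG_keys264) (range_split (keysOK_spec certG_keys265) (keysOK_spec certG_keys266))) (range_split (keysOK_spec certG_keys267) (range_split (keysOK_spec certG_keys268) (keysOK_spec certG_keys269)))) (range_split (range_split (keysOK_spec certG_keys270) (range_split (keysOK_spec certG_keys271) (keysOK_spec certG_keys272))) (range_split (keysOK_spec certG_keys273) (range_split (keysOK_spec certG_keys274) (keysOK_spec certG_keys275)))))))) (range_split (range_split (range_split (range_split (range_split (range_split (keysOK_spec certG_keys276) (keysOK_spec certG_keys277)) (range_split (keysOK_spec certG_keys278) (range_split (keysOK_spec certG_keys279) (keysOK_spec certG_keys280)))) (range_split (range_split (keysOK_spec certG_keys281) (range_split (keysOK_spec certG_keys282) (keysOK_spec certG_keys283)))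 (range_split (keysOK_spec certG_keys284) (range_split (keysOK_spec certG_keys285) (keysOK_spec certG_keys286))))) (range_split (range_split (range_split (keysOK_spec certG_keys287) (range_split (keysOK_spec certG_keys288) (keysOK_spec certG_keys289))) (range_split (keysOK_spec certG_keys290) (range_split (keysOK_spec certG_keys291) (keysOK_spec certG_keys292)))) (range_split (range_split (keysOK_spec certG_keys293) (range_split (keysOK_spec certG_keys294) (keysOK_spec certG_keys295))) (range_split (keysOK_spec certG_keys296) (range_split (keysOK_spec certG_keys297) (keysOK_spec certG_keys298)))))) (range_split (range_split (range_split (range_split (keysOK_spec certG_keys299) (keysOK_spec certG_keys300)) (range_split (keysOK_spec certG_keys301) (range_split (keysOK_spec certG_keys302) (keysOK_spec certG_keys303)))) (range_split (range_split (keysOK_spec certG_keys304) (range_split (keysOK_spec certG_keys305) (keysOK_spec certG_keys306))) (range_split (keysOK_spec certG_keys307) (range_split (keysOK_spec certG_keys308) (keysOK_spec certG_keys309))))) (range_split (range_split (range_split (keysOK_spec certG_keys310) (range_split (keysOK_spec certG_keys311) (keysOK_spec certG_keys312))) (range_split (keysOK_spec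 certG_keys313) (range_split (keysOK_spec certG_keys314) (keysOK_spec certG_keys315)))) (range_split (range_split (keysOK_spec certG_keys316) (range_split (keysOK_spec certG_keys317) (keysOK_spec certG_keys318))) (range_split (keysOK_spec certG_keys319) (range_split (keysOK_spec certG_keys320) (keysOK_spec certG_keys321))))))) (range_split (range_split (range_split (range_split (range_split (keysOK_spec certG_keys322) (keysOK_spec certG_keys323)) (range_split (keysOK_spec certG_keys324) (range_split (keysOK_spec certG_keys325) (keysOK_spec certG_keys326)))) (range_split (range_split (keysOK_spec certG_keys327) (range_split (keysOK_spec certG_keys328) (keysOK_spec certG_keys329))) (range_split (keysOK_spec certG_keys330) (range_split (keysOK_spec certG_keys331) (keysOK_spec certG_keys332))))) (range_split (range_split (range_split (keysOK_spec certG_keys333) (range_split (keysOK_spec certG_keys334) (keysOK_spec certG_keys335))) (range_split (keysOK_spec certG_keys336) (range_split (keysOK_spec certG_keys337) (keysOK_spec certG_keys338)))) (range_split (range_split (keysOK_spec certG_keys339) (range_split (keysOK_spec certG_keys340) (keysOK_spec certG_keys341))) (range_split (keysOK_spec certG_keys342) (range_split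 (keysOK_spec certG_keys343) (keysOK_spec certG_keys344)))))) (range_split (range_split (range_split (range_split (keysOK_spec certG_keys345) (range_split (keysOK_spec certG_keys346) (keysOK_spec certG_keys347))) (range_split (keysOK_spec certG_keys348) (range_split (keysOK_spec certG_keys349) (keysOK_spec certG_keys350)))) (range_split (range_split (keysOK_spec certG_keys351) (range_split (keysOK_spec certG_keys352) (keysOK_spec certG_keys353))) (range_split (keysOK_spec certG_keys354) (range_split (keysOK_spec certG_keys355) (keysOK_spec certG_keys356))))) (range_split (range_split (range_split (keysOK_spec certG_keys357) (range_split (keysOK_spec certG_keys358) (keysOK_spec certG_keys359))) (range_split (keysOK_spec certG_keys360) (range_split (keysOK_spec certG_keys361) (keysOK_spec certG_keys362)))) (range_split (range_split (keysOK_spec certG_keys363) (range_split (keysOK_spec certG_keys364) (keysOK_spec certG_keys365))) (range_split (keysOK_spec certG_keys366) (range_split (keysOK_spec certG_keys367) (keysOK_spec certG_keys368)))))))))) k (Nat.zero_le _) hk)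
    (fun u hu => ⟨1143062, (range_split (range_split (range_split (range_split (closedFrom_spec certG_closed0) (range_split (closedFrom_spec certG_closed1) (closedFrom_spec certG_closed2))) (range_split (range_split (closedFrom_spec certG_closed3) (closedFrom_spec certG_closed4)) (range_split (closedFrom_spec certG_closed5) (closedFrom_spec certG_closed6)))) (range_split (range_split (range_split (closedFrom_spec certG_closed7) (closedFrom_spec certG_closed8)) (range_split (closedFrom_spec certG_closed9) (closedFrom_spec certG_closed10))) (range_split (range_split (closedFrom_spec certG_closed11) (closedFrom_spec certG_closed12)) (range_split (closedFrom_spec certG_closed13) (closedFrom_spec certG_closed14))))) (range_split (range_split (range_split (range_split (closedFrom_spec certG_closed15) (closedFrom_spec certG_closed16)) (range_split (closedFrom_spec certG_closed17) (closedFrom_spec certG_closed18))) (range_split (range_split (closedFrom_spec certG_closed19) (closedFrom_spec certG_closed20)) (range_split (closedFrom_spec certG_closed21) (closedFrom_spec certG_closed22)))) (range_split (range_split (range_split (closedFrom_spec certG_closed23) (closedFrom_spec certG_closed24)) (range_split (closedFrom_spec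 certG_closed25) (closedFrom_spec certG_closed26))) (range_split (range_split (closedFrom_spec certG_closed27) (closedFrom_spec certG_closed28)) (range_split (closedFrom_spec certG_closed29) (closedFrom_spec certG_closed30)))))) u (Nat.zero_le _) hu⟩)
    (by decide +kernel) (by decide +kernel)

end CfsgLib.Sporadic.CosetCert.ONData
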