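import Cfsg.Agent.Lib.Sporadic.ONData.ONCertGData

/-!
# Checks 0 of certG

Machine-generated data and the kernel checks on it.
-/

set_option maxRecDepth 100000
set_option Elab.async false

namespace CfsgLib.Sporadic.CosetCert.ONData

theorem certG_keys0 : certG.keysOK 0 4000 = true := by decide +kernel
theorem certG_keys1 : certG.keysOK 4000 4000 = true := by decide +kernel
theorem certG_keys2 : certG.keysOK 8000 4000 = true := by decide +kernel
theorem certG_keys3 : certG.keysOK 12000 4000 = true := by decide +kernel
theorem certG_keys4 : certG.keysOK 16000 4000 = true := by decide +kernel
theorem certG_keys5 : certG.keysOK 20000 4000 = true := by decide +kernel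
theorem certG_keys6 : certG.keysOK 24000 4000 = true := by decide +kernel
theorem certG_keys7 : certG.keysOK 28000 4000 = true := by decide +kernel
theorem certG_keys8 : certG.keysOK 32000 4000 = true := by decide +kernel
theorem certG_keys9 : certG.keysOK 36000 4000 = true := by decide +kernel

end CfsgLib.Sporadic.CosetCert.ONData
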