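import Cfsg.Agent.Lib.Sporadic.ONData.ONCertGData

/-!
# Checks 11 of certG

Machine-generated data and the kernel checks on it.
-/

set_option maxRecDepth 100000
set_option Elab.async false

namespace CfsgLib.Sporadic.CosetCert.ONData

theorem certG_keys110 : certG.keysOK 440000 4000 = true := by decide +kernel
theorem certG_keys111 : certG.keysOK 444000 4000 = true := by decide +kernel
theorem certG_keys112 : certG.keysOK 448000 4000 = true := by decide +kernel
theorem certG_keys113 : certG.keysOK 452000 4000 = true := by decide +kernel
theorem certG_keys114 : certG.keysOK 456000 4000 = true := by decide +kernel
theorem certG_keys115 : certG.keysOK 460000 4000 = true := by decide +kernel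
theorem certG_keys116 : certG.keysOK 464000 4000 = true := by decide +kernel
theorem certG_keys117 : certG.keysOK 468000 4000 = true := by decide +kernel
theorem certG_keys118 : certG.keysOK 472000 4000 = true := by decide +kernel
theorem certG_keys119 : certG.keysOK 476000 4000 = true := by decide +kernel

end CfsgLib.Sporadic.CosetCert.ONData
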