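import Cfsg.Agent.Lib.Sporadic.ONData.ONCertGData

/-!
# Checks 23 of certG

Machine-generated data and the kernel checks on it.
-/

set_option maxRecDepth 100000
set_option Elab.async false

namespace CfsgLib.Sporadic.CosetCert.ONData

theorem certG_keys230 : certG.keysOK 920000 4000 = true := by decide +kernel
theorem certG_keys231 : certG.keysOK 924000 4000 = true := by decide +kernel
theorem certG_keys232 : certG.keysOK 928000 4000 = true := by decide +kernel
theorem certG_keys233 : certG.keysOK 932000 4000 = true := by decide +kernel
theorem certG_keys234 : certG.keysOK 936000 4000 = true := by decide +kernel
theorem certG_keys235 : certG.keysOK 940000 4000 = true := by decide +kernel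
theorem certG_keys236 : certG.keysOK 944000 4000 = true := by decide +kernel
theorem certG_keys237 : certG.keysOK 948000 4000 = true := by decide +kernel
theorem certG_keys238 : certG.keysOK 952000 4000 = true := by decide +kernel
theorem certG_keys239 : certG.keysOK 956000 4000 = true := by decide +kernel

end CfsgLib.Sporadic.CosetCert.ONData
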