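import Cfsg.Agent.Lib.Sporadic.ONData.ONCertGData

/-!
# Checks 35 of certG

Machine-generated data and the kernel checks on it.
-/

set_option maxRecDepth 100000
set_option Elab.async false

namespace CfsgLib.Sporadic.CosetCert.ONData

theorem certG_keys350 : certG.keysOK 1400000 4000 = true := by decide +kernel
theorem certG_keys351 : certG.keysOK 1404000 4000 = true := by decide +kernel
theorem certG_keys352 : certG.keysOK 1408000 4000 = true := by decide +kernel
theorem certG_keys353 : certG.keysOK 1412000 4000 = true := by decide +kernel
theorem certG_keys354 : certG.keysOK 1416000 4000 = true := by decide +kernel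
theorem certG_keys355 : certG.keysOK 1420000 4000 = true := by decide +kernel
theorem certG_keys356 : certG.keysOK 1424000 4000 = true := by decide +kernel
theorem certG_keys357 : certG.keysOK 1428000 4000 = true := by decide +kernel
theorem certG_keys358 : certG.keysOK 1432000 4000 = true := by decide +kernel
theorem certG_keys359 : certG.keysOK 1436000 4000 = true := by decide +kernel

end CfsgLib.Sporadic.CosetCert.ONData
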