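import Cfsg.Agent.Lib.Sporadic.CosetCertGroup
import Cfsg.Agent.Lib.Sporadic.ONData.ONCertGSlots0
import Cfsg.Agent.Lib.Sporadic.ONData.ONCertGSlots1
import Cfsg.Agent.Lib.Sporadic.ONData.ONCertGJust0
import Cfsg.Agent.Lib.Sporadic.ONData.ONCertGJust1
import Cfsg.Agent.Lib.Sporadic.ONData.ONCertGJust2
import Cfsg.Agent.Lib.Sporadic.ONData.ONCertGJust3
import Cfsg.Agent.Lib.Sporadic.ONData.ONCertGParent0
import Cfsg.Agent.Lib.Sporadic.ONData.ONCertGParent1

/-!
# Coset enumeration certificate certG

Machine-generated data and the kernel checks on it.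
-/

set_option maxRecDepth 100000

namespace CfsgLib.Sporadic.CosetCert.ONData

/-- Coset enumeration certificate: 122760 cosets, 163747 nodes, 1143061 facts. -/
noncomputable def certG : Cert where
  N := 122760
  M := 163747
  nl := 8
  nr := 28
  fuel := 6
  vb := 18
  rb := 21
  iv := 0x876543201
  words := [(2, 0x22), (6, 0x232323), (4, 0x2424), (4, 0x2525), (4, 0x2626), (4, 0x2727), (2, 0x33), (6, 0x343434), (4, 0x3535), (4, 0x3636), (4, 0x3737), (2, 0x44), (16, 0x4545454545454545), (4, 0x4646), (4, 0x4747), (2, 0x55), (6, 0x565656), (4, 0x5757), (2, 0x66), (6, 0x676767), (2, 0x77), (4, 0x2711), (10, 0x2754545454), (10, 0x4151545050), (10, 0x5141454040), (20, 0x34503450345034503450), (11, 0x3404303404), (11, 0x6505606505), (1, 0x2), (1, 0x3), (1, 0x4), (1, 0x5), (1, 0x6), (1, 0x7)]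
  slots := (.node (.node (.node certG_slots0 certG_slots1) (.node certG_slots2 certG_slots3)) (.node (.node certG_slots4 certG_slots5) (.node certG_slots6 certG_slots7)))
  just := (.node (.node (.node certG_just0 certG_just1) (.node certG_just2 certG_just3)) (.node (.node certG_just4 certG_just5) (.node certG_just6 certG_just7)))
  parent := (.node (.node (.node certG_parent0 certG_parent1) (.node certG_parent2 certG_parent3)) (.node (.node certG_parent4 certG_parent5) (.node certG_parent6 certG_parent7)))


end CfsgLib.Sporadic.CosetCert.ONData
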