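import Cfsg.Agent.Lib.Sporadic.ONData.ONFast
import Cfsg.Agent.Lib.Sporadic.ONData.ONTable

/-!
# Rows 0 and 1 agree with the table

Machine-generated data and the kernel checks on it.
-/

set_option maxRecDepth 100000
set_option Elab.async false

namespace CfsgLib.Sporadic.CosetCert.ONData

theorem table_fast0_0 : table.agreeL 0 fast0 0 8000 = true := by decide +kernel
theorem table_fast0_1 : table.agreeL 0 fast0 8000 8000 = true := by decide +kernel
theorem table_fast0_2 : table.agreeL 0 fast0 16000 8000 = true := by decide +kernel
theorem table_fast0_3 : table.agreeL 0 fast0 24000 8000 = true := by decide +kernel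
theorem table_fast0_4 : table.agreeL 0 fast0 32000 8000 = true := by decide +kernel
theorem table_fast0_5 : table.agreeL 0 fast0 40000 8000 = true := by decide +kernel
theorem table_fast0_6 : table.agreeL 0 fast0 48000 8000 = true := by decide +kernel
theorem table_fast0_7 : table.agreeL 0 fast0 56000 8000 = true := by decide +kernel
theorem table_fast0_8 : table.agreeL 0 fast0 64000 8000 = true := by decide +kernel
theorem table_fast0_9 : table.agreeL 0 fast0 72000 8000 = true := by decide +kernel
theorem table_fast0_10 : table.agreeL 0 fast0 80000 8000 = true := by decide +kernel
theorem table_fast0_11 : table.agreeL 0 fast0 88000 8000 = true := by decide +kernel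
theorem table_fast0_12 : table.agreeL 0 fast0 96000 8000 = true := by decide +kernel
theorem table_fast0_13 : table.agreeL 0 fast0 104000 8000 = true := by decide +kernel
theorem table_fast0_14 : table.agreeL 0 fast0 112000 8000 = true := by decide +kernel
theorem table_fast0_15 : table.agreeL 0 fast0 120000 2760 = true := by decide +kernel
theorem table_fast1_0 : table.agreeL 1 fast1 0 8000 = true := by decide +kernel
theorem table_fast1_1 : table.agreeL 1 fast1 8000 8000 = true := by decide +kernel
theorem table_fast1_2 : table.agreeL 1 fast1 16000 8000 = true := by decide +kernel
theorem table_fast1_3 : table.agreeL 1 fast1 24000 8000 = true := by decide +kernel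
theorem table_fast1_4 : table.agreeL 1 fast1 32000 8000 = true := by decide +kernel
theorem table_fast1_5 : table.agreeL 1 fast1 40000 8000 = true := by decide +kernel
theorem table_fast1_6 : table.agreeL 1 fast1 48000 8000 = true := by decide +kernel
theorem table_fast1_7 : table.agreeL 1 fast1 56000 8000 = true := by decide +kernel
theorem table_fast1_8 : table.agreeL 1 fast1 64000 8000 = true := by decide +kernel
theorem table_fast1_9 : table.agreeL 1 fast1 72000 8000 = true := by decide +kernel
theorem table_fast1_10 : table.agreeL 1 fast1 80000 8000 = true := by decide +kernel
theorem table_fast1_11 : table.agreeL 1 fast1 88000 8000 = true := by decide +kernel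
theorem table_fast1_12 : table.agreeL 1 fast1 96000 8000 = true := by decide +kernel
theorem table_fast1_13 : table.agreeL 1 fast1 104000 8000 = true := by decide +kernel
theorem table_fast1_14 : table.agreeL 1 fast1 112000 8000 = true := by decide +kernel
theorem table_fast1_15 : table.agreeL 1 fast1 120000 2760 = true := by decide +kernel

end CfsgLib.Sporadic.CosetCert.ONData
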