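import Cfsg.Agent.Lib.Sporadic.ONData.ONForest
import Cfsg.Agent.Lib.Sporadic.ONData.ONFast

/-!
# Tree edges of the orbits

Machine-generated data and the kernel checks on it.
-/

set_option maxRecDepth 100000
set_option Elab.async false

namespace CfsgLib.Sporadic.CosetCert.ONData

theorem forest_edges0 : forest.edgesL table fastRows 0 4000 = true := by decide +kernel
theorem forest_edges1 : forest.edgesL table fastRows 4000 4000 = true := by decide +kernel
theorem forest_edges2 : forest.edgesL table fastRows 8000 4000 = true := by decide +kernel
theorem forest_edges3 : forest.edgesL table fastRows 12000 4000 = true := by decide +kernel
theorem forest_edges4 : forest.edgesL table fastRows 16000 4000 = true := by decide +kernel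
theorem forest_edges5 : forest.edgesL table fastRows 20000 4000 = true := by decide +kernel
theorem forest_edges6 : forest.edgesL table fastRows 24000 4000 = true := by decide +kernel
theorem forest_edges7 : forest.edgesL table fastRows 28000 4000 = true := by decide +kernel
theorem forest_edges8 : forest.edgesL table fastRows 32000 4000 = true := by decide +kernel
theorem forest_edges9 : forest.edgesL table fastRows 36000 4000 = true := by decide +kernel
theorem forest_edges10 : forest.edgesL table fastRows 40000 4000 = true := by decide +kernel
theorem forest_edges11 : forest.edgesL table fastRows 44000 4000 = true := by decide +kernel
theorem forest_edges12 : forest.edgesL table fastRows 48000 4000 = true := by decide +kernel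
theorem forest_edges13 : forest.edgesL table fastRows 52000 4000 = true := by decide +kernel
theorem forest_edges14 : forest.edgesL table fastRows 56000 4000 = true := by decide +kernel
theorem forest_edges15 : forest.edgesL table fastRows 60000 4000 = true := by decide +kernel
theorem forest_edges16 : forest.edgesL table fastRows 64000 4000 = true := by decide +kernel
theorem forest_edges17 : forest.edgesL table fastRows 68000 4000 = true := by decide +kernel
theorem forest_edges18 : forest.edgesL table fastRows 72000 4000 = true := by decide +kernel
theorem forest_edges19 : forest.edgesL table fastRows 76000 4000 = true := by decide +kernel
theorem forest_edges20 : forest.edgesL table fastRows 80000 4000 = true := by decide +kernel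
theorem forest_edges21 : forest.edgesL table fastRows 84000 4000 = true := by decide +kernel
theorem forest_edges22 : forest.edgesL table fastRows 88000 4000 = true := by decide +kernel
theorem forest_edges23 : forest.edgesL table fastRows 92000 4000 = true := by decide +kernel
theorem forest_edges24 : forest.edgesL table fastRows 96000 4000 = true := by decide +kernel
theorem forest_edges25 : forest.edgesL table fastRows 100000 4000 = true := by decide +kernel
theorem forest_edges26 : forest.edgesL table fastRows 104000 4000 = true := by decide +kernel
theorem forest_edges27 : forest.edgesL table fastRows 108000 4000 = true := by decide +kernel
theorem forest_edges28 : forest.edgesL table fastRows 112000 4000 = true := by decide +kernel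
theorem forest_edges29 : forest.edgesL table fastRows 116000 4000 = true := by decide +kernel
theorem forest_edges30 : forest.edgesL table fastRows 120000 2760 = true := by decide +kernel

end CfsgLib.Sporadic.CosetCert.ONData
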