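import Cfsg.Agent.Lib.Sporadic.ONData.ONForest
import Cfsg.Agent.Lib.Sporadic.ONData.ONFast

/-!
# The orbits are closed, part 0

Machine-generated data and the kernel checks on it.
-/

set_option maxRecDepth 100000
set_option Elab.async false

namespace CfsgLib.Sporadic.CosetCert.ONData

theorem forest_closed2_0 : forest.closedL 122760 fast2 0 8000 = true := by decide +kernel
theorem forest_closed2_1 : forest.closedL 122760 fast2 8000 8000 = true := by decide +kernel
theorem forest_closed2_2 : forest.closedL 122760 fast2 16000 8000 = true := by decide +kernel
theorem forest_closed2_3 : forest.closedL 122760 fast2 24000 8000 = true := by decide +kernel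
theorem forest_closed2_4 : forest.closedL 122760 fast2 32000 8000 = true := by decide +kernel
theorem forest_closed2_5 : forest.closedL 122760 fast2 40000 8000 = true := by decide +kernel
theorem forest_closed2_6 : forest.closedL 122760 fast2 48000 8000 = true := by decide +kernel
theorem forest_closed2_7 : forest.closedL 122760 fast2 56000 8000 = true := by decide +kernel
theorem forest_closed2_8 : forest.closedL 122760 fast2 64000 8000 = true := by decide +kernel
theorem forest_closed2_9 : forest.closedL 122760 fast2 72000 8000 = true := by decide +kernel
theorem forest_closed2_10 : forest.closedL 122760 fast2 80000 8000 = true := by decide +kernel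
theorem forest_closed2_11 : forest.closedL 122760 fast2 88000 8000 = true := by decide +kernel
theorem forest_closed2_12 : forest.closedL 122760 fast2 96000 8000 = true := by decide +kernel
theorem forest_closed2_13 : forest.closedL 122760 fast2 104000 8000 = true := by decide +kernel
theorem forest_closed2_14 : forest.closedL 122760 fast2 112000 8000 = true := by decide +kernel
theorem forest_closed2_15 : forest.closedL 122760 fast2 120000 2760 = true := by decide +kernel
theorem forest_closed3_0 : forest.closedL 122760 fast3 0 8000 = true := by decide +kernel
theorem forest_closed3_1 : forest.closedL 122760 fast3 8000 8000 = true := by decide +kernel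
theorem forest_closed3_2 : forest.closedL 122760 fast3 16000 8000 = true := by decide +kernel
theorem forest_closed3_3 : forest.closedL 122760 fast3 24000 8000 = true := by decide +kernel
theorem forest_closed3_4 : forest.closedL 122760 fast3 32000 8000 = true := by decide +kernel
theorem forest_closed3_5 : forest.closedL 122760 fast3 40000 8000 = true := by decide +kernel
theorem forest_closed3_6 : forest.closedL 122760 fast3 48000 8000 = true := by decide +kernel
theorem forest_closed3_7 : forest.closedL 122760 fast3 56000 8000 = true := by decide +kernel
theorem forest_closed3_8 : forest.closedL 122760 fast3 64000 8000 = true := by decide +kernel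
theorem forest_closed3_9 : forest.closedL 122760 fast3 72000 8000 = true := by decide +kernel
theorem forest_closed3_10 : forest.closedL 122760 fast3 80000 8000 = true := by decide +kernel
theorem forest_closed3_11 : forest.closedL 122760 fast3 88000 8000 = true := by decide +kernel
theorem forest_closed3_12 : forest.closedL 122760 fast3 96000 8000 = true := by decide +kernel
theorem forest_closed3_13 : forest.closedL 122760 fast3 104000 8000 = true := by decide +kernel
theorem forest_closed3_14 : forest.closedL 122760 fast3 112000 8000 = true := by decide +kernel
theorem forest_closed3_15 : forest.closedL 122760 fast3 120000 2760 = true := by decide +kernel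

end CfsgLib.Sporadic.CosetCert.ONData
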