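import Cfsg.Agent.Lib.Sporadic.ONData.ONForest
import Cfsg.Agent.Lib.Sporadic.ONData.ONFast

/-!
# The orbits are closed, part 1

Machine-generated data and the kernel checks on it.
-/

set_option maxRecDepth 100000
set_option Elab.async false

namespace CfsgLib.Sporadic.CosetCert.ONData

theorem forest_closed4_0 : forest.closedL 122760 fast4 0 8000 = true := by decide +kernel
theorem forest_closed4_1 : forest.closedL 122760 fast4 8000 8000 = true := by decide +kernel
theorem forest_closed4_2 : forest.closedL 122760 fast4 16000 8000 = true := by decide +kernel
theorem forest_closed4_3 : forest.closedL 122760 fast4 24000 8000 = true := by decide +kernel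
theorem forest_closed4_4 : forest.closedL 122760 fast4 32000 8000 = true := by decide +kernel
theorem forest_closed4_5 : forest.closedL 122760 fast4 40000 8000 = true := by decide +kernel
theorem forest_closed4_6 : forest.closedL 122760 fast4 48000 8000 = true := by decide +kernel
theorem forest_closed4_7 : forest.closedL 122760 fast4 56000 8000 = true := by decide +kernel
theorem forest_closed4_8 : forest.closedL 122760 fast4 64000 8000 = true := by decide +kernel
theorem forest_closed4_9 : forest.closedL 122760 fast4 72000 8000 = true := by decide +kernel
theorem forest_closed4_10 : forest.closedL 122760 fast4 80000 8000 = true := by decide +kernel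
theorem forest_closed4_11 : forest.closedL 122760 fast4 88000 8000 = true := by decide +kernel
theorem forest_closed4_12 : forest.closedL 122760 fast4 96000 8000 = true := by decide +kernel
theorem forest_closed4_13 : forest.closedL 122760 fast4 104000 8000 = true := by decide +kernel
theorem forest_closed4_14 : forest.closedL 122760 fast4 112000 8000 = true := by decide +kernel
theorem forest_closed4_15 : forest.closedL 122760 fast4 120000 2760 = true := by decide +kernel
theorem forest_closed5_0 : forest.closedL 122760 fast5 0 8000 = true := by decide +kernel
theorem forest_closed5_1 : forest.closedL 122760 fast5 8000 8000 = true := by decide +kernel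
theorem forest_closed5_2 : forest.closedL 122760 fast5 16000 8000 = true := by decide +kernel
theorem forest_closed5_3 : forest.closedL 122760 fast5 24000 8000 = true := by decide +kernel
theorem forest_closed5_4 : forest.closedL 122760 fast5 32000 8000 = true := by decide +kernel
theorem forest_closed5_5 : forest.closedL 122760 fast5 40000 8000 = true := by decide +kernel
theorem forest_closed5_6 : forest.closedL 122760 fast5 48000 8000 = true := by decide +kernel
theorem forest_closed5_7 : forest.closedL 122760 fast5 56000 8000 = true := by decide +kernel
theorem forest_closed5_8 : forest.closedL 122760 fast5 64000 8000 = true := by decide +kernel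
theorem forest_closed5_9 : forest.closedL 122760 fast5 72000 8000 = true := by decide +kernel
theorem forest_closed5_10 : forest.closedL 122760 fast5 80000 8000 = true := by decide +kernel
theorem forest_closed5_11 : forest.closedL 122760 fast5 88000 8000 = true := by decide +kernel
theorem forest_closed5_12 : forest.closedL 122760 fast5 96000 8000 = true := by decide +kernel
theorem forest_closed5_13 : forest.closedL 122760 fast5 104000 8000 = true := by decide +kernel
theorem forest_closed5_14 : forest.closedL 122760 fast5 112000 8000 = true := by decide +kernel
theorem forest_closed5_15 : forest.closedL 122760 fast5 120000 2760 = true := by decide +kernel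

end CfsgLib.Sporadic.CosetCert.ONData
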