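import Cfsg.Agent.Lib.Sporadic.ONData.ONForest
import Cfsg.Agent.Lib.Sporadic.ONData.ONFast

/-!
# The orbits are closed, part 2

Machine-generated data and the kernel checks on it.
-/

set_option maxRecDepth 100000
set_option Elab.async false

namespace CfsgLib.Sporadic.CosetCert.ONData

theorem forest_closed6_0 : forest.closedL 122760 fast6 0 8000 = true := by decide +kernel
theorem forest_closed6_1 : forest.closedL 122760 fast6 8000 8000 = true := by decide +kernel
theorem forest_closed6_2 : forest.closedL 122760 fast6 16000 8000 = true := by decide +kernel
theorem forest_closed6_3 : forest.closedL 122760 fast6 24000 8000 = true := by decide +kernel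
theorem forest_closed6_4 : forest.closedL 122760 fast6 32000 8000 = true := by decide +kernel
theorem forest_closed6_5 : forest.closedL 122760 fast6 40000 8000 = true := by decide +kernel
theorem forest_closed6_6 : forest.closedL 122760 fast6 48000 8000 = true := by decide +kernel
theorem forest_closed6_7 : forest.closedL 122760 fast6 56000 8000 = true := by decide +kernel
theorem forest_closed6_8 : forest.closedL 122760 fast6 64000 8000 = true := by decide +kernel
theorem forest_closed6_9 : forest.closedL 122760 fast6 72000 8000 = true := by decide +kernel
theorem forest_closed6_10 : forest.closedL 122760 fast6 80000 8000 = true := by decide +kernel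
theorem forest_closed6_11 : forest.closedL 122760 fast6 88000 8000 = true := by decide +kernel
theorem forest_closed6_12 : forest.closedL 122760 fast6 96000 8000 = true := by decide +kernel
theorem forest_closed6_13 : forest.closedL 122760 fast6 104000 8000 = true := by decide +kernel
theorem forest_closed6_14 : forest.closedL 122760 fast6 112000 8000 = true := by decide +kernel
theorem forest_closed6_15 : forest.closedL 122760 fast6 120000 2760 = true := by decide +kernel
theorem forest_closed7_0 : forest.closedL 122760 fast7 0 8000 = true := by decide +kernel
theorem forest_closed7_1 : forest.closedL 122760 fast7 8000 8000 = true := by decide +kernel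
theorem forest_closed7_2 : forest.closedL 122760 fast7 16000 8000 = true := by decide +kernel
theorem forest_closed7_3 : forest.closedL 122760 fast7 24000 8000 = true := by decide +kernel
theorem forest_closed7_4 : forest.closedL 122760 fast7 32000 8000 = true := by decide +kernel
theorem forest_closed7_5 : forest.closedL 122760 fast7 40000 8000 = true := by decide +kernel
theorem forest_closed7_6 : forest.closedL 122760 fast7 48000 8000 = true := by decide +kernel
theorem forest_closed7_7 : forest.closedL 122760 fast7 56000 8000 = true := by decide +kernel
theorem forest_closed7_8 : forest.closedL 122760 fast7 64000 8000 = true := by decide +kernel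
theorem forest_closed7_9 : forest.closedL 122760 fast7 72000 8000 = true := by decide +kernel
theorem forest_closed7_10 : forest.closedL 122760 fast7 80000 8000 = true := by decide +kernel
theorem forest_closed7_11 : forest.closedL 122760 fast7 88000 8000 = true := by decide +kernel
theorem forest_closed7_12 : forest.closedL 122760 fast7 96000 8000 = true := by decide +kernel
theorem forest_closed7_13 : forest.closedL 122760 fast7 104000 8000 = true := by decide +kernel
theorem forest_closed7_14 : forest.closedL 122760 fast7 112000 8000 = true := by decide +kernel
theorem forest_closed7_15 : forest.closedL 122760 fast7 120000 2760 = true := by decide +kernel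

end CfsgLib.Sporadic.CosetCert.ONData
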