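import Cfsg.Agent.Lib.Sporadic.ONData.ONForest

/-!
# Orbit lengths

Machine-generated data and the kernel checks on it.
-/

set_option maxRecDepth 100000
set_option Elab.async false

namespace CfsgLib.Sporadic.CosetCert.ONData

theorem forest_count3 : forest.count 3 table.N = 5586 := by decide +kernel

theorem forest_count4 : forest.count 4 table.N = 6384 := by decide +kernel


end CfsgLib.Sporadic.CosetCert.ONData
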