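import Cfsg.Agent.Lib.Sporadic.ONData.ONForestCheck0
import Cfsg.Agent.Lib.Sporadic.ONData.ONForestCheck1
import Cfsg.Agent.Lib.Sporadic.ONData.ONForestCheck2
import Cfsg.Agent.Lib.Sporadic.ONData.ONForestCheck3
import Cfsg.Agent.Lib.Sporadic.ONData.ONForestCounts0
import Cfsg.Agent.Lib.Sporadic.ONData.ONForestCounts1
import Cfsg.Agent.Lib.Sporadic.ONData.ONFastChecks

/-!
# Orbit checks

Machine-generated data and the kernel checks on it.
-/

set_option maxRecDepth 100000
set_option Elab.async false

namespace CfsgLib.Sporadic.CosetCert.ONData

theorem forest_ok : ∀ u < table.N, forest.pointOK table u = true := by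
  intro u hu
  have hu' : u < 122760 := hu
  refine Forest.pointOK_of_fast (fs := fastRows) table_fast (by decide +kernel) hu ?_
    ((range_split (range_split (range_split (range_split (Forest.edgesL_spec forest_edges0) (range_split (Forest.edgesL_spec forest_edges1) (Forest.edgesL_spec forest_edges2))) (range_split (range_split (Forest.edgesL_spec forest_edges3) (Forest.edgesL_spec forest_edges4)) (range_split (Forest.edgesL_spec forest_edges5) (Forest.edgesL_spec forest_edges6)))) (range_split (range_split (range_split (Forest.edgesL_spec forest_edges7) (Forest.edgesL_spec forest_edges8)) (range_split (Forest.edgesL_spec forest_edges9) (Forest.edgesL_spec forest_edges10))) (range_split (range_split (Forest.edgesL_spec forest_edges11) (Forest.edgesL_spec forest_edges12)) (range_split (Forest.edgesL_spec forest_edges13) (Forest.edgesL_spec forest_edges14))))) (range_split (range_split (range_split (range_split (Forest.edgesL_spec forest_edges15) (Forest.edgesL_spec forest_edges16)) (range_split (Forest.edgesL_spec forest_edges17) (Forest.edgesL_spec forest_edges18))) (range_split (range_split (Forest.edgesL_spec forest_edges19) (Forest.edgesL_spec forest_edges20)) (range_split (Forest.edgesL_spec forest_edges21) (Forest.edgesL_spec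 forest_edges22)))) (range_split (range_split (range_split (Forest.edgesL_spec forest_edges23) (Forest.edgesL_spec forest_edges24)) (range_split (Forest.edgesL_spec forest_edges25) (Forest.edgesL_spec forest_edges26))) (range_split (range_split (Forest.edgesL_spec forest_edges27) (Forest.edgesL_spec forest_edges28)) (range_split (Forest.edgesL_spec forest_edges29) (Forest.edgesL_spec forest_edges30)))))) u (Nat.zero_le _) hu')
  intro r hr
  change r ∈ [2, 3, 4, 5, 6, 7] at hr
  simp only [List.mem_cons, List.not_mem_nil, or_false] at hr
  rcases hr with rfl | rfl | rfl | rfl | rfl | rfl
  · exact (range_split (range_split (range_split (range_split (Forest.closedL_spec forest_closed2_0) (Forest.closedL_spec forest_closed2_1)) (range_split (Forest.closedL_spec forest_closed2_2) (Forest.closedL_spec forest_closed2_3))) (range_split (range_split (Forest.closedL_spec forest_closed2_4) (Forest.closedL_spec forest_closed2_5)) (range_split (Forest.closedL_spec forest_closed2_6) (Forest.closedL_spec forest_closed2_7)))) (range_split (range_split (range_split (Forest.closedL_spec forest_closed2_8) (Forest.closedL_spec forest_closed2_9)) (range_split (Forest.closedL_spec forest_closed2_10) (Forest.closedL_spec forest_closed2_11)))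 (range_split (range_split (Forest.closedL_spec forest_closed2_12) (Forest.closedL_spec forest_closed2_13)) (range_split (Forest.closedL_spec forest_closed2_14) (Forest.closedL_spec forest_closed2_15))))) u (Nat.zero_le _) hu'
  · exact (range_split (range_split (range_split (range_split (Forest.closedL_spec forest_closed3_0) (Forest.closedL_spec forest_closed3_1)) (range_split (Forest.closedL_spec forest_closed3_2) (Forest.closedL_spec forest_closed3_3))) (range_split (range_split (Forest.closedL_spec forest_closed3_4) (Forest.closedL_spec forest_closed3_5)) (range_split (Forest.closedL_spec forest_closed3_6) (Forest.closedL_spec forest_closed3_7)))) (range_split (range_split (range_split (Forest.closedL_spec forest_closed3_8) (Forest.closedL_spec forest_closed3_9)) (range_split (Forest.closedL_spec forest_closed3_10) (Forest.closedL_spec forest_closed3_11))) (range_split (range_split (Forest.closedL_spec forest_closed3_12) (Forest.closedL_spec forest_closed3_13)) (range_split (Forest.closedL_spec forest_closed3_14) (Forest.closedL_spec forest_closed3_15))))) u (Nat.zero_le _) hu'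
  · exact (range_split (range_split (range_split (range_split (Forest.closedL_spec forest_closed4_0) (Forest.closedL_spec forest_closed4_1)) (range_split (Forest.closedL_spec forest_closed4_2) (Forest.closedL_spec forest_closed4_3))) (range_split (range_split (Forest.closedL_spec forest_closed4_4) (Forest.closedL_spec forest_closed4_5)) (range_split (Forest.closedL_spec forest_closed4_6) (Forest.closedL_spec forest_closed4_7)))) (range_split (range_split (range_split (Forest.closedL_spec forest_closed4_8) (Forest.closedL_spec forest_closed4_9)) (range_split (Forest.closedL_spec forest_closed4_10) (Forest.closedL_spec forest_closed4_11))) (range_split (range_split (Forest.closedL_spec forest_closed4_12) (Forest.closedL_spec forest_closed4_13)) (range_split (Forest.closedL_spec forest_closed4_14) (Forest.closedL_spec forest_closed4_15))))) u (Nat.zero_le _) hu'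
  · exact (range_split (range_split (range_split (range_split (Forest.closedL_spec forest_closed5_0) (Forest.closedL_spec forest_closed5_1)) (range_split (Forest.closedL_spec forest_closed5_2) (Forest.closedL_spec forest_closed5_3))) (range_split (range_split (Forest.closedL_spec forest_closed5_4) (Forest.closedL_spec forest_closed5_5)) (range_split (Forest.closedL_spec forest_closed5_6) (Forest.closedL_spec forest_closed5_7)))) (range_split (range_split (range_split (Forest.closedL_spec forest_closed5_8) (Forest.closedL_spec forest_closed5_9)) (range_split (Forest.closedL_spec forest_closed5_10) (Forest.closedL_spec forest_closed5_11))) (range_split (range_split (Forest.closedL_spec forest_closed5_12) (Forest.closedL_spec forest_closed5_13)) (range_split (Forest.closedL_spec forest_closed5_14) (Forest.closedL_spec forest_closed5_15))))) u (Nat.zero_le _) hu'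
  · exact (range_split (range_split (range_split (range_split (Forest.closedL_spec forest_closed6_0) (Forest.closedL_spec forest_closed6_1)) (range_split (Forest.closedL_spec forest_closed6_2) (Forest.closedL_spec forest_closed6_3))) (range_split (range_split (Forest.closedL_spec forest_closed6_4) (Forest.closedL_spec forest_closed6_5)) (range_split (Forest.closedL_spec forest_closed6_6) (Forest.closedL_spec forest_closed6_7)))) (range_split (range_split (range_split (Forest.closedL_spec forest_closed6_8) (Forest.closedL_spec forest_closed6_9)) (range_split (Forest.closedL_spec forest_closed6_10) (Forest.closedL_spec forest_closed6_11))) (range_split (range_split (Forest.closedL_spec forest_closed6_12) (Forest.closedL_spec forest_closed6_13)) (range_split (Forest.closedL_spec forest_closed6_14) (Forest.closedL_spec forest_closed6_15))))) u (Nat.zero_le _) hu'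
  · exact (range_split (range_split (range_split (range_split (Forest.closedL_spec forest_closed7_0) (Forest.closedL_spec forest_closed7_1)) (range_split (Forest.closedL_spec forest_closed7_2) (Forest.closedL_spec forest_closed7_3))) (range_split (range_split (Forest.closedL_spec forest_closed7_4) (Forest.closedL_spec forest_closed7_5)) (range_split (Forest.closedL_spec forest_closed7_6) (Forest.closedL_spec forest_closed7_7)))) (range_split (range_split (range_split (Forest.closedL_spec forest_closed7_8) (Forest.closedL_spec forest_closed7_9)) (range_split (Forest.closedL_spec forest_closed7_10) (Forest.closedL_spec forest_closed7_11))) (range_split (range_split (Forest.closedL_spec forest_closed7_12) (Forest.closedL_spec forest_closed7_13)) (range_split (Forest.closedL_spec forest_closed7_14) (Forest.closedL_spec forest_closed7_15))))) u (Nat.zero_le _) hu'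

end CfsgLib.Sporadic.CosetCert.ONData
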