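import Cfsg.Agent.Lib.Sporadic.ONData.ONFast

/-!
# Words act trivially, part 1

Machine-generated data and the kernel checks on it.
-/

set_option maxRecDepth 100000
set_option Elab.async false

namespace CfsgLib.Sporadic.CosetCert.ONData

theorem table_word2_14 : PTab.fixL [fast4, fast2, fast4, fast2] 112000 8000 = true := by decide +kernel
theorem table_word2_15 : PTab.fixL [fast4, fast2, fast4, fast2] 120000 2760 = true := by decide +kernel
theorem table_word3_0 : PTab.fixL [fast5, fast2, fast5, fast2] 0 8000 = true := by decide +kernel
theorem table_word3_1 : PTab.fixL [fast5, fast2, fast5, fast2] 8000 8000 = true := by decide +kernel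
theorem table_word3_2 : PTab.fixL [fast5, fast2, fast5, fast2] 16000 8000 = true := by decide +kernel
theorem table_word3_3 : PTab.fixL [fast5, fast2, fast5, fast2] 24000 8000 = true := by decide +kernel
theorem table_word3_4 : PTab.fixL [fast5, fast2, fast5, fast2] 32000 8000 = true := by decide +kernel
theorem table_word3_5 : PTab.fixL [fast5, fast2, fast5, fast2] 40000 8000 = true := by decide +kernel
theorem table_word3_6 : PTab.fixL [fast5, fast2, fast5, fast2] 48000 8000 = true := by decide +kernel
theorem table_word3_7 : PTab.fixL [fast5, fast2, fast5, fast2] 56000 8000 = true := by decide +kernel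
theorem table_word3_8 : PTab.fixL [fast5, fast2, fast5, fast2] 64000 8000 = true := by decide +kernel
theorem table_word3_9 : PTab.fixL [fast5, fast2, fast5, fast2] 72000 8000 = true := by decide +kernel
theorem table_word3_10 : PTab.fixL [fast5, fast2, fast5, fast2] 80000 8000 = true := by decide +kernel
theorem table_word3_11 : PTab.fixL [fast5, fast2, fast5, fast2] 88000 8000 = true := by decide +kernel
theorem table_word3_12 : PTab.fixL [fast5, fast2, fast5, fast2] 96000 8000 = true := by decide +kernel
theorem table_word3_13 : PTab.fixL [fast5, fast2, fast5, fast2] 104000 8000 = true := by decide +kernel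
theorem table_word3_14 : PTab.fixL [fast5, fast2, fast5, fast2] 112000 8000 = true := by decide +kernel
theorem table_word3_15 : PTab.fixL [fast5, fast2, fast5, fast2] 120000 2760 = true := by decide +kernel
theorem table_word4_0 : PTab.fixL [fast6, fast2, fast6, fast2] 0 8000 = true := by decide +kernel
theorem table_word4_1 : PTab.fixL [fast6, fast2, fast6, fast2] 8000 8000 = true := by decide +kernel
theorem table_word4_2 : PTab.fixL [fast6, fast2, fast6, fast2] 16000 8000 = true := by decide +kernel
theorem table_word4_3 : PTab.fixL [fast6, fast2, fast6, fast2] 24000 8000 = true := by decide +kernel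
theorem table_word4_4 : PTab.fixL [fast6, fast2, fast6, fast2] 32000 8000 = true := by decide +kernel
theorem table_word4_5 : PTab.fixL [fast6, fast2, fast6, fast2] 40000 8000 = true := by decide +kernel
theorem table_word4_6 : PTab.fixL [fast6, fast2, fast6, fast2] 48000 8000 = true := by decide +kernel
theorem table_word4_7 : PTab.fixL [fast6, fast2, fast6, fast2] 56000 8000 = true := by decide +kernel
theorem table_word4_8 : PTab.fixL [fast6, fast2, fast6, fast2] 64000 8000 = true := by decide +kernel
theorem table_word4_9 : PTab.fixL [fast6, fast2, fast6, fast2] 72000 8000 = true := by decide +kernel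
theorem table_word4_10 : PTab.fixL [fast6, fast2, fast6, fast2] 80000 8000 = true := by decide +kernel
theorem table_word4_11 : PTab.fixL [fast6, fast2, fast6, fast2] 88000 8000 = true := by decide +kernel
theorem table_word4_12 : PTab.fixL [fast6, fast2, fast6, fast2] 96000 8000 = true := by decide +kernel
theorem table_word4_13 : PTab.fixL [fast6, fast2, fast6, fast2] 104000 8000 = true := by decide +kernel
theorem table_word4_14 : PTab.fixL [fast6, fast2, fast6, fast2] 112000 8000 = true := by decide +kernel
theorem table_word4_15 : PTab.fixL [fast6, fast2, fast6, fast2] 120000 2760 = true := by decide +kernel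
theorem table_word5_0 : PTab.fixL [fast7, fast2, fast7, fast2] 0 8000 = true := by decide +kernel
theorem table_word5_1 : PTab.fixL [fast7, fast2, fast7, fast2] 8000 8000 = true := by decide +kernel
theorem table_word5_2 : PTab.fixL [fast7, fast2, fast7, fast2] 16000 8000 = true := by decide +kernel
theorem table_word5_3 : PTab.fixL [fast7, fast2, fast7, fast2] 24000 8000 = true := by decide +kernel
theorem table_word5_4 : PTab.fixL [fast7, fast2, fast7, fast2] 32000 8000 = true := by decide +kernel
theorem table_word5_5 : PTab.fixL [fast7, fast2, fast7, fast2] 40000 8000 = true := by decide +kernel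
theorem table_word5_6 : PTab.fixL [fast7, fast2, fast7, fast2] 48000 8000 = true := by decide +kernel
theorem table_word5_7 : PTab.fixL [fast7, fast2, fast7, fast2] 56000 8000 = true := by decide +kernel
theorem table_word5_8 : PTab.fixL [fast7, fast2, fast7, fast2] 64000 8000 = true := by decide +kernel
theorem table_word5_9 : PTab.fixL [fast7, fast2, fast7, fast2] 72000 8000 = true := by decide +kernel
theorem table_word5_10 : PTab.fixL [fast7, fast2, fast7, fast2] 80000 8000 = true := by decide +kernel
theorem table_word5_11 : PTab.fixL [fast7, fast2, fast7, fast2] 88000 8000 = true := by decide +kernel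

end CfsgLib.Sporadic.CosetCert.ONData
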