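import Cfsg.Agent.Lib.Sporadic.ONData.ONFast

/-!
# Words act trivially, part 10

Machine-generated data and the kernel checks on it.
-/

set_option maxRecDepth 100000
set_option Elab.async false

namespace CfsgLib.Sporadic.CosetCert.ONData

theorem table_word24_8 : PTab.fixL [fast0, fast4, fast0, fast4, fast5, fast4, fast1, fast4, fast1, fast5] 51200 6400 = true := by decide +kernel
theorem table_word24_9 : PTab.fixL [fast0, fast4, fast0, fast4, fast5, fast4, fast1, fast4, fast1, fast5] 57600 6400 = true := by decide +kernel
theorem table_word24_10 : PTab.fixL [fast0, fast4, fast0, fast4, fast5, fast4, fast1, fast4, fast1, fast5] 64000 6400 = true := by decide +kernel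
theorem table_word24_11 : PTab.fixL [fast0, fast4, fast0, fast4, fast5, fast4, fast1, fast4, fast1, fast5] 70400 6400 = true := by decide +kernel
theorem table_word24_12 : PTab.fixL [fast0, fast4, fast0, fast4, fast5, fast4, fast1, fast4, fast1, fast5] 76800 6400 = true := by decide +kernel
theorem table_word24_13 : PTab.fixL [fast0, fast4, fast0, fast4, fast5, fast4, fast1, fast4, fast1, fast5] 83200 6400 = true := by decide +kernel
theorem table_word24_14 : PTab.fixL [fast0, fast4, fast0, fast4, fast5, fast4, fast1, fast4, fast1, fast5] 89600 6400 = true := by decide +kernel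
theorem table_word24_15 : PTab.fixL [fast0, fast4, fast0, fast4, fast5, fast4, fast1, fast4, fast1, fast5] 96000 6400 = true := by decide +kernel
theorem table_word24_16 : PTab.fixL [fast0, fast4, fast0, fast4, fast5, fast4, fast1, fast4, fast1, fast5] 102400 6400 = true := by decide +kernel
theorem table_word24_17 : PTab.fixL [fast0, fast4, fast0, fast4, fast5, fast4, fast1, fast4, fast1, fast5] 108800 6400 = true := by decide +kernel
theorem table_word24_18 : PTab.fixL [fast0, fast4, fast0, fast4, fast5, fast4, fast1, fast4, fast1, fast5] 115200 6400 = true := by decide +kernel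
theorem table_word24_19 : PTab.fixL [fast0, fast4, fast0, fast4, fast5, fast4, fast1, fast4, fast1, fast5] 121600 1160 = true := by decide +kernel
theorem table_word25_0 : PTab.fixL [fast0, fast5, fast4, fast3, fast0, fast5, fast4, fast3, fast0, fast5, fast4, fast3, fast0, fast5, fast4, fast3, fast0, fast5, fast4, fast3] 0 3200 = true := by decide +kernel
theorem table_word25_1 : PTab.fixL [fast0, fast5, fast4, fast3, fast0, fast5, fast4, fast3, fast0, fast5, fast4, fast3, fast0, fast5, fast4, fast3, fast0, fast5, fast4, fast3] 3200 3200 = true := by decide +kernel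
theorem table_word25_2 : PTab.fixL [fast0, fast5, fast4, fast3, fast0, fast5, fast4, fast3, fast0, fast5, fast4, fast3, fast0, fast5, fast4, fast3, fast0, fast5, fast4, fast3] 6400 3200 = true := by decide +kernel
theorem table_word25_3 : PTab.fixL [fast0, fast5, fast4, fast3, fast0, fast5, fast4, fast3, fast0, fast5, fast4, fast3, fast0, fast5, fast4, fast3, fast0, fast5, fast4, fast3] 9600 3200 = true := by decide +kernel
theorem table_word25_4 : PTab.fixL [fast0, fast5, fast4, fast3, fast0, fast5, fast4, fast3, fast0, fast5, fast4, fast3, fast0, fast5, fast4, fast3, fast0, fast5, fast4, fast3] 12800 3200 = true := by decide +kernel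
theorem table_word25_5 : PTab.fixL [fast0, fast5, fast4, fast3, fast0, fast5, fast4, fast3, fast0, fast5, fast4, fast3, fast0, fast5, fast4, fast3, fast0, fast5, fast4, fast3] 16000 3200 = true := by decide +kernel
theorem table_word25_6 : PTab.fixL [fast0, fast5, fast4, fast3, fast0, fast5, fast4, fast3, fast0, fast5, fast4, fast3, fast0, fast5, fast4, fast3, fast0, fast5, fast4, fast3] 19200 3200 = true := by decide +kernel
theorem table_word25_7 : PTab.fixL [fast0, fast5, fast4, fast3, fast0, fast5, fast4, fast3, fast0, fast5, fast4, fast3, fast0, fast5, fast4, fast3, fast0, fast5, fast4, fast3] 22400 3200 = true := by decide +kernel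
theorem table_word25_8 : PTab.fixL [fast0, fast5, fast4, fast3, fast0, fast5, fast4, fast3, fast0, fast5, fast4, fast3, fast0, fast5, fast4, fast3, fast0, fast5, fast4, fast3] 25600 3200 = true := by decide +kernel
theorem table_word25_9 : PTab.fixL [fast0, fast5, fast4, fast3, fast0, fast5, fast4, fast3, fast0, fast5, fast4, fast3, fast0, fast5, fast4, fast3, fast0, fast5, fast4, fast3] 28800 3200 = true := by decide +kernel
theorem table_word25_10 : PTab.fixL [fast0, fast5, fast4, fast3, fast0, fast5, fast4, fast3, fast0, fast5, fast4, fast3, fast0, fast5, fast4, fast3, fast0, fast5, fast4, fast3] 32000 3200 = true := by decide +kernel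
theorem table_word25_11 : PTab.fixL [fast0, fast5, fast4, fast3, fast0, fast5, fast4, fast3, fast0, fast5, fast4, fast3, fast0, fast5, fast4, fast3, fast0, fast5, fast4, fast3] 35200 3200 = true := by decide +kernel
theorem table_word25_12 : PTab.fixL [fast0, fast5, fast4, fast3, fast0, fast5, fast4, fast3, fast0, fast5, fast4, fast3, fast0, fast5, fast4, fast3, fast0, fast5, fast4, fast3] 38400 3200 = true := by decide +kernel
theorem table_word25_13 : PTab.fixL [fast0, fast5, fast4, fast3, fast0, fast5, fast4, fast3, fast0, fast5, fast4, fast3, fast0, fast5, fast4, fast3, fast0, fast5, fast4, fast3] 41600 3200 = true := by decide +kernel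
theorem table_word25_14 : PTab.fixL [fast0, fast5, fast4, fast3, fast0, fast5, fast4, fast3, fast0, fast5, fast4, fast3, fast0, fast5, fast4, fast3, fast0, fast5, fast4, fast3] 44800 3200 = true := by decide +kernel

end CfsgLib.Sporadic.CosetCert.ONData
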