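import Cfsg.Agent.Lib.Sporadic.ONData.ONFast

/-!
# Words act trivially, part 11

Machine-generated data and the kernel checks on it.
-/

set_option maxRecDepth 100000
set_option Elab.async false

namespace CfsgLib.Sporadic.CosetCert.ONData

theorem table_word25_15 : PTab.fixL [fast0, fast5, fast4, fast3, fast0, fast5, fast4, fast3, fast0, fast5, fast4, fast3, fast0, fast5, fast4, fast3, fast0, fast5, fast4, fast3] 48000 3200 = true := by decide +kernel
theorem table_word25_16 : PTab.fixL [fast0, fast5, fast4, fast3, fast0, fast5, fast4, fast3, fast0, fast5, fast4, fast3, fast0, fast5, fast4, fast3, fast0, fast5, fast4, fast3] 51200 3200 = true := by decide +kernel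
theorem table_word25_17 : PTab.fixL [fast0, fast5, fast4, fast3, fast0, fast5, fast4, fast3, fast0, fast5, fast4, fast3, fast0, fast5, fast4, fast3, fast0, fast5, fast4, fast3] 54400 3200 = true := by decide +kernel
theorem table_word25_18 : PTab.fixL [fast0, fast5, fast4, fast3, fast0, fast5, fast4, fast3, fast0, fast5, fast4, fast3, fast0, fast5, fast4, fast3, fast0, fast5, fast4, fast3] 57600 3200 = true := by decide +kernel
theorem table_word25_19 : PTab.fixL [fast0, fast5, fast4, fast3, fast0, fast5, fast4, fast3, fast0, fast5, fast4, fast3, fast0, fast5, fast4, fast3, fast0, fast5, fast4, fast3] 60800 3200 = true := by decide +kernel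
theorem table_word25_20 : PTab.fixL [fast0, fast5, fast4, fast3, fast0, fast5, fast4, fast3, fast0, fast5, fast4, fast3, fast0, fast5, fast4, fast3, fast0, fast5, fast4, fast3] 64000 3200 = true := by decide +kernel
theorem table_word25_21 : PTab.fixL [fast0, fast5, fast4, fast3, fast0, fast5, fast4, fast3, fast0, fast5, fast4, fast3, fast0, fast5, fast4, fast3, fast0, fast5, fast4, fast3] 67200 3200 = true := by decide +kernel
theorem table_word25_22 : PTab.fixL [fast0, fast5, fast4, fast3, fast0, fast5, fast4, fast3, fast0, fast5, fast4, fast3, fast0, fast5, fast4, fast3, fast0, fast5, fast4, fast3] 70400 3200 = true := by decide +kernel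
theorem table_word25_23 : PTab.fixL [fast0, fast5, fast4, fast3, fast0, fast5, fast4, fast3, fast0, fast5, fast4, fast3, fast0, fast5, fast4, fast3, fast0, fast5, fast4, fast3] 73600 3200 = true := by decide +kernel
theorem table_word25_24 : PTab.fixL [fast0, fast5, fast4, fast3, fast0, fast5, fast4, fast3, fast0, fast5, fast4, fast3, fast0, fast5, fast4, fast3, fast0, fast5, fast4, fast3] 76800 3200 = true := by decide +kernel
theorem table_word25_25 : PTab.fixL [fast0, fast5, fast4, fast3, fast0, fast5, fast4, fast3, fast0, fast5, fast4, fast3, fast0, fast5, fast4, fast3, fast0, fast5, fast4, fast3] 80000 3200 = true := by decide +kernel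
theorem table_word25_26 : PTab.fixL [fast0, fast5, fast4, fast3, fast0, fast5, fast4, fast3, fast0, fast5, fast4, fast3, fast0, fast5, fast4, fast3, fast0, fast5, fast4, fast3] 83200 3200 = true := by decide +kernel
theorem table_word25_27 : PTab.fixL [fast0, fast5, fast4, fast3, fast0, fast5, fast4, fast3, fast0, fast5, fast4, fast3, fast0, fast5, fast4, fast3, fast0, fast5, fast4, fast3] 86400 3200 = true := by decide +kernel
theorem table_word25_28 : PTab.fixL [fast0, fast5, fast4, fast3, fast0, fast5, fast4, fast3, fast0, fast5, fast4, fast3, fast0, fast5, fast4, fast3, fast0, fast5, fast4, fast3] 89600 3200 = true := by decide +kernel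
theorem table_word25_29 : PTab.fixL [fast0, fast5, fast4, fast3, fast0, fast5, fast4, fast3, fast0, fast5, fast4, fast3, fast0, fast5, fast4, fast3, fast0, fast5, fast4, fast3] 92800 3200 = true := by decide +kernel
theorem table_word25_30 : PTab.fixL [fast0, fast5, fast4, fast3, fast0, fast5, fast4, fast3, fast0, fast5, fast4, fast3, fast0, fast5, fast4, fast3, fast0, fast5, fast4, fast3] 96000 3200 = true := by decide +kernel
theorem table_word25_31 : PTab.fixL [fast0, fast5, fast4, fast3, fast0, fast5, fast4, fast3, fast0, fast5, fast4, fast3, fast0, fast5, fast4, fast3, fast0, fast5, fast4, fast3] 99200 3200 = true := by decide +kernel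
theorem table_word25_32 : PTab.fixL [fast0, fast5, fast4, fast3, fast0, fast5, fast4, fast3, fast0, fast5, fast4, fast3, fast0, fast5, fast4, fast3, fast0, fast5, fast4, fast3] 102400 3200 = true := by decide +kernel
theorem table_word25_33 : PTab.fixL [fast0, fast5, fast4, fast3, fast0, fast5, fast4, fast3, fast0, fast5, fast4, fast3, fast0, fast5, fast4, fast3, fast0, fast5, fast4, fast3] 105600 3200 = true := by decide +kernel
theorem table_word25_34 : PTab.fixL [fast0, fast5, fast4, fast3, fast0, fast5, fast4, fast3, fast0, fast5, fast4, fast3, fast0, fast5, fast4, fast3, fast0, fast5, fast4, fast3] 108800 3200 = true := by decide +kernel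
theorem table_word25_35 : PTab.fixL [fast0, fast5, fast4, fast3, fast0, fast5, fast4, fast3, fast0, fast5, fast4, fast3, fast0, fast5, fast4, fast3, fast0, fast5, fast4, fast3] 112000 3200 = true := by decide +kernel
theorem table_word25_36 : PTab.fixL [fast0, fast5, fast4, fast3, fast0, fast5, fast4, fast3, fast0, fast5, fast4, fast3, fast0, fast5, fast4, fast3, fast0, fast5, fast4, fast3] 115200 3200 = true := by decide +kernel
theorem table_word25_37 : PTab.fixL [fast0, fast5, fast4, fast3, fast0, fast5, fast4, fast3, fast0, fast5, fast4, fast3, fast0, fast5, fast4, fast3, fast0, fast5, fast4, fast3] 118400 3200 = true := by decide +kernel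
theorem table_word25_38 : PTab.fixL [fast0, fast5, fast4, fast3, fast0, fast5, fast4, fast3, fast0, fast5, fast4, fast3, fast0, fast5, fast4, fast3, fast0, fast5, fast4, fast3] 121600 1160 = true := by decide +kernel
theorem table_word26_0 : PTab.fixL [fast4, fast0, fast4, fast3, fast0, fast3, fast4, fast0, fast4, fast3, fast0] 0 5818 = true := by decide +kernel
theorem table_word26_1 : PTab.fixL [fast4, fast0, fast4, fast3, fast0, fast3, fast4, fast0, fast4, fast3, fast0] 5818 5818 = true := by decide +kernel
theorem table_word26_2 : PTab.fixL [fast4, fast0, fast4, fast3, fast0, fast3, fast4, fast0, fast4, fast3, fast0] 11636 5818 = true := by decide +kernel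

end CfsgLib.Sporadic.CosetCert.ONData
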