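import Cfsg.Agent.Lib.Sporadic.ONData.ONFast

/-!
# Words act trivially, part 13

Machine-generated data and the kernel checks on it.
-/

set_option maxRecDepth 100000
set_option Elab.async false

namespace CfsgLib.Sporadic.CosetCert.ONData

theorem table_word27_7 : PTab.fixL [fast5, fast0, fast5, fast6, fast0, fast6, fast5, fast0, fast5, fast6, fast0] 40726 5818 = true := by decide +kernel
theorem table_word27_8 : PTab.fixL [fast5, fast0, fast5, fast6, fast0, fast6, fast5, fast0, fast5, fast6, fast0] 46544 5818 = true := by decide +kernel
theorem table_word27_9 : PTab.fixL [fast5, fast0, fast5, fast6, fast0, fast6, fast5, fast0, fast5, fast6, fast0] 52362 5818 = true := by decide +kernel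
theorem table_word27_10 : PTab.fixL [fast5, fast0, fast5, fast6, fast0, fast6, fast5, fast0, fast5, fast6, fast0] 58180 5818 = true := by decide +kernel
theorem table_word27_11 : PTab.fixL [fast5, fast0, fast5, fast6, fast0, fast6, fast5, fast0, fast5, fast6, fast0] 63998 5818 = true := by decide +kernel
theorem table_word27_12 : PTab.fixL [fast5, fast0, fast5, fast6, fast0, fast6, fast5, fast0, fast5, fast6, fast0] 69816 5818 = true := by decide +kernel
theorem table_word27_13 : PTab.fixL [fast5, fast0, fast5, fast6, fast0, fast6, fast5, fast0, fast5, fast6, fast0] 75634 5818 = true := by decide +kernel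
theorem table_word27_14 : PTab.fixL [fast5, fast0, fast5, fast6, fast0, fast6, fast5, fast0, fast5, fast6, fast0] 81452 5818 = true := by decide +kernel
theorem table_word27_15 : PTab.fixL [fast5, fast0, fast5, fast6, fast0, fast6, fast5, fast0, fast5, fast6, fast0] 87270 5818 = true := by decide +kernel
theorem table_word27_16 : PTab.fixL [fast5, fast0, fast5, fast6, fast0, fast6, fast5, fast0, fast5, fast6, fast0] 93088 5818 = true := by decide +kernel
theorem table_word27_17 : PTab.fixL [fast5, fast0, fast5, fast6, fast0, fast6, fast5, fast0, fast5, fast6, fast0] 98906 5818 = true := by decide +kernel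
theorem table_word27_18 : PTab.fixL [fast5, fast0, fast5, fast6, fast0, fast6, fast5, fast0, fast5, fast6, fast0] 104724 5818 = true := by decide +kernel
theorem table_word27_19 : PTab.fixL [fast5, fast0, fast5, fast6, fast0, fast6, fast5, fast0, fast5, fast6, fast0] 110542 5818 = true := by decide +kernel
theorem table_word27_20 : PTab.fixL [fast5, fast0, fast5, fast6, fast0, fast6, fast5, fast0, fast5, fast6, fast0] 116360 5818 = true := by decide +kernel
theorem table_word27_21 : PTab.fixL [fast5, fast0, fast5, fast6, fast0, fast6, fast5, fast0, fast5, fast6, fast0] 122178 582 = true := by decide +kernel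
theorem table_word28_0 : PTab.fixL [fast0, fast1] 0 8000 = true := by decide +kernel
theorem table_word28_1 : PTab.fixL [fast0, fast1] 8000 8000 = true := by decide +kernel
theorem table_word28_2 : PTab.fixL [fast0, fast1] 16000 8000 = true := by decide +kernel
theorem table_word28_3 : PTab.fixL [fast0, fast1] 24000 8000 = true := by decide +kernel
theorem table_word28_4 : PTab.fixL [fast0, fast1] 32000 8000 = true := by decide +kernel
theorem table_word28_5 : PTab.fixL [fast0, fast1] 40000 8000 = true := by decide +kernel
theorem table_word28_6 : PTab.fixL [fast0, fast1] 48000 8000 = true := by decide +kernel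
theorem table_word28_7 : PTab.fixL [fast0, fast1] 56000 8000 = true := by decide +kernel
theorem table_word28_8 : PTab.fixL [fast0, fast1] 64000 8000 = true := by decide +kernel
theorem table_word28_9 : PTab.fixL [fast0, fast1] 72000 8000 = true := by decide +kernel
theorem table_word28_10 : PTab.fixL [fast0, fast1] 80000 8000 = true := by decide +kernel
theorem table_word28_11 : PTab.fixL [fast0, fast1] 88000 8000 = true := by decide +kernel
theorem table_word28_12 : PTab.fixL [fast0, fast1] 96000 8000 = true := by decide +kernel
theorem table_word28_13 : PTab.fixL [fast0, fast1] 104000 8000 = true := by decide +kernel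
theorem table_word28_14 : PTab.fixL [fast0, fast1] 112000 8000 = true := by decide +kernel
theorem table_word28_15 : PTab.fixL [fast0, fast1] 120000 2760 = true := by decide +kernel
theorem table_word29_0 : PTab.fixL [fast1, fast0] 0 8000 = true := by decide +kernel
theorem table_word29_1 : PTab.fixL [fast1, fast0] 8000 8000 = true := by decide +kernel
theorem table_word29_2 : PTab.fixL [fast1, fast0] 16000 8000 = true := by decide +kernel
theorem table_word29_3 : PTab.fixL [fast1, fast0] 24000 8000 = true := by decide +kernel
theorem table_word29_4 : PTab.fixL [fast1, fast0] 32000 8000 = true := by decide +kernel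
theorem table_word29_5 : PTab.fixL [fast1, fast0] 40000 8000 = true := by decide +kernel
theorem table_word29_6 : PTab.fixL [fast1, fast0] 48000 8000 = true := by decide +kernel
theorem table_word29_7 : PTab.fixL [fast1, fast0] 56000 8000 = true := by decide +kernel
theorem table_word29_8 : PTab.fixL [fast1, fast0] 64000 8000 = true := by decide +kernel
theorem table_word29_9 : PTab.fixL [fast1, fast0] 72000 8000 = true := by decide +kernel
theorem table_word29_10 : PTab.fixL [fast1, fast0] 80000 8000 = true := by decide +kernel
theorem table_word29_11 : PTab.fixL [fast1, fast0] 88000 8000 = true := by decide +kernel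
theorem table_word29_12 : PTab.fixL [fast1, fast0] 96000 8000 = true := by decide +kernel
theorem table_word29_13 : PTab.fixL [fast1, fast0] 104000 8000 = true := by decide +kernel
theorem table_word29_14 : PTab.fixL [fast1, fast0] 112000 8000 = true := by decide +kernel
theorem table_word29_15 : PTab.fixL [fast1, fast0] 120000 2760 = true := by decide +kernel

end CfsgLib.Sporadic.CosetCert.ONData
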