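import Cfsg.Agent.Lib.Sporadic.ONData.ONFast

/-!
# Words act trivially, part 2

Machine-generated data and the kernel checks on it.
-/

set_option maxRecDepth 100000
set_option Elab.async false

namespace CfsgLib.Sporadic.CosetCert.ONData

theorem table_word5_12 : PTab.fixL [fast7, fast2, fast7, fast2] 96000 8000 = true := by decide +kernel
theorem table_word5_13 : PTab.fixL [fast7, fast2, fast7, fast2] 104000 8000 = true := by decide +kernel
theorem table_word5_14 : PTab.fixL [fast7, fast2, fast7, fast2] 112000 8000 = true := by decide +kernel
theorem table_word5_15 : PTab.fixL [fast7, fast2, fast7, fast2] 120000 2760 = true := by decide +kernel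
theorem table_word6_0 : PTab.fixL [fast3, fast3] 0 8000 = true := by decide +kernel
theorem table_word6_1 : PTab.fixL [fast3, fast3] 8000 8000 = true := by decide +kernel
theorem table_word6_2 : PTab.fixL [fast3, fast3] 16000 8000 = true := by decide +kernel
theorem table_word6_3 : PTab.fixL [fast3, fast3] 24000 8000 = true := by decide +kernel
theorem table_word6_4 : PTab.fixL [fast3, fast3] 32000 8000 = true := by decide +kernel
theorem table_word6_5 : PTab.fixL [fast3, fast3] 40000 8000 = true := by decide +kernel
theorem table_word6_6 : PTab.fixL [fast3, fast3] 48000 8000 = true := by decide +kernel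
theorem table_word6_7 : PTab.fixL [fast3, fast3] 56000 8000 = true := by decide +kernel
theorem table_word6_8 : PTab.fixL [fast3, fast3] 64000 8000 = true := by decide +kernel
theorem table_word6_9 : PTab.fixL [fast3, fast3] 72000 8000 = true := by decide +kernel
theorem table_word6_10 : PTab.fixL [fast3, fast3] 80000 8000 = true := by decide +kernel
theorem table_word6_11 : PTab.fixL [fast3, fast3] 88000 8000 = true := by decide +kernel
theorem table_word6_12 : PTab.fixL [fast3, fast3] 96000 8000 = true := by decide +kernel
theorem table_word6_13 : PTab.fixL [fast3, fast3] 104000 8000 = true := by decide +kernel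
theorem table_word6_14 : PTab.fixL [fast3, fast3] 112000 8000 = true := by decide +kernel
theorem table_word6_15 : PTab.fixL [fast3, fast3] 120000 2760 = true := by decide +kernel
theorem table_word7_0 : PTab.fixL [fast4, fast3, fast4, fast3, fast4, fast3] 0 8000 = true := by decide +kernel
theorem table_word7_1 : PTab.fixL [fast4, fast3, fast4, fast3, fast4, fast3] 8000 8000 = true := by decide +kernel
theorem table_word7_2 : PTab.fixL [fast4, fast3, fast4, fast3, fast4, fast3] 16000 8000 = true := by decide +kernel
theorem table_word7_3 : PTab.fixL [fast4, fast3, fast4, fast3, fast4, fast3] 24000 8000 = true := by decide +kernel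
theorem table_word7_4 : PTab.fixL [fast4, fast3, fast4, fast3, fast4, fast3] 32000 8000 = true := by decide +kernel
theorem table_word7_5 : PTab.fixL [fast4, fast3, fast4, fast3, fast4, fast3] 40000 8000 = true := by decide +kernel
theorem table_word7_6 : PTab.fixL [fast4, fast3, fast4, fast3, fast4, fast3] 48000 8000 = true := by decide +kernel
theorem table_word7_7 : PTab.fixL [fast4, fast3, fast4, fast3, fast4, fast3] 56000 8000 = true := by decide +kernel
theorem table_word7_8 : PTab.fixL [fast4, fast3, fast4, fast3, fast4, fast3] 64000 8000 = true := by decide +kernel
theorem table_word7_9 : PTab.fixL [fast4, fast3, fast4, fast3, fast4, fast3] 72000 8000 = true := by decide +kernel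
theorem table_word7_10 : PTab.fixL [fast4, fast3, fast4, fast3, fast4, fast3] 80000 8000 = true := by decide +kernel
theorem table_word7_11 : PTab.fixL [fast4, fast3, fast4, fast3, fast4, fast3] 88000 8000 = true := by decide +kernel
theorem table_word7_12 : PTab.fixL [fast4, fast3, fast4, fast3, fast4, fast3] 96000 8000 = true := by decide +kernel
theorem table_word7_13 : PTab.fixL [fast4, fast3, fast4, fast3, fast4, fast3] 104000 8000 = true := by decide +kernel
theorem table_word7_14 : PTab.fixL [fast4, fast3, fast4, fast3, fast4, fast3] 112000 8000 = true := by decide +kernel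
theorem table_word7_15 : PTab.fixL [fast4, fast3, fast4, fast3, fast4, fast3] 120000 2760 = true := by decide +kernel
theorem table_word8_0 : PTab.fixL [fast5, fast3, fast5, fast3] 0 8000 = true := by decide +kernel
theorem table_word8_1 : PTab.fixL [fast5, fast3, fast5, fast3] 8000 8000 = true := by decide +kernel
theorem table_word8_2 : PTab.fixL [fast5, fast3, fast5, fast3] 16000 8000 = true := by decide +kernel
theorem table_word8_3 : PTab.fixL [fast5, fast3, fast5, fast3] 24000 8000 = true := by decide +kernel
theorem table_word8_4 : PTab.fixL [fast5, fast3, fast5, fast3] 32000 8000 = true := by decide +kernel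
theorem table_word8_5 : PTab.fixL [fast5, fast3, fast5, fast3] 40000 8000 = true := by decide +kernel
theorem table_word8_6 : PTab.fixL [fast5, fast3, fast5, fast3] 48000 8000 = true := by decide +kernel
theorem table_word8_7 : PTab.fixL [fast5, fast3, fast5, fast3] 56000 8000 = true := by decide +kernel
theorem table_word8_8 : PTab.fixL [fast5, fast3, fast5, fast3] 64000 8000 = true := by decide +kernel
theorem table_word8_9 : PTab.fixL [fast5, fast3, fast5, fast3] 72000 8000 = true := by decide +kernel

end CfsgLib.Sporadic.CosetCert.ONData
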