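import Cfsg.Agent.Lib.Sporadic.ONData.ONFast

/-!
# Words act trivially, part 3

Machine-generated data and the kernel checks on it.
-/

set_option maxRecDepth 100000
set_option Elab.async false

namespace CfsgLib.Sporadic.CosetCert.ONData

theorem table_word8_10 : PTab.fixL [fast5, fast3, fast5, fast3] 80000 8000 = true := by decide +kernel
theorem table_word8_11 : PTab.fixL [fast5, fast3, fast5, fast3] 88000 8000 = true := by decide +kernel
theorem table_word8_12 : PTab.fixL [fast5, fast3, fast5, fast3] 96000 8000 = true := by decide +kernel
theorem table_word8_13 : PTab.fixL [fast5, fast3, fast5, fast3] 104000 8000 = true := by decide +kernel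
theorem table_word8_14 : PTab.fixL [fast5, fast3, fast5, fast3] 112000 8000 = true := by decide +kernel
theorem table_word8_15 : PTab.fixL [fast5, fast3, fast5, fast3] 120000 2760 = true := by decide +kernel
theorem table_word9_0 : PTab.fixL [fast6, fast3, fast6, fast3] 0 8000 = true := by decide +kernel
theorem table_word9_1 : PTab.fixL [fast6, fast3, fast6, fast3] 8000 8000 = true := by decide +kernel
theorem table_word9_2 : PTab.fixL [fast6, fast3, fast6, fast3] 16000 8000 = true := by decide +kernel
theorem table_word9_3 : PTab.fixL [fast6, fast3, fast6, fast3] 24000 8000 = true := by decide +kernel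
theorem table_word9_4 : PTab.fixL [fast6, fast3, fast6, fast3] 32000 8000 = true := by decide +kernel
theorem table_word9_5 : PTab.fixL [fast6, fast3, fast6, fast3] 40000 8000 = true := by decide +kernel
theorem table_word9_6 : PTab.fixL [fast6, fast3, fast6, fast3] 48000 8000 = true := by decide +kernel
theorem table_word9_7 : PTab.fixL [fast6, fast3, fast6, fast3] 56000 8000 = true := by decide +kernel
theorem table_word9_8 : PTab.fixL [fast6, fast3, fast6, fast3] 64000 8000 = true := by decide +kernel
theorem table_word9_9 : PTab.fixL [fast6, fast3, fast6, fast3] 72000 8000 = true := by decide +kernel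
theorem table_word9_10 : PTab.fixL [fast6, fast3, fast6, fast3] 80000 8000 = true := by decide +kernel
theorem table_word9_11 : PTab.fixL [fast6, fast3, fast6, fast3] 88000 8000 = true := by decide +kernel
theorem table_word9_12 : PTab.fixL [fast6, fast3, fast6, fast3] 96000 8000 = true := by decide +kernel
theorem table_word9_13 : PTab.fixL [fast6, fast3, fast6, fast3] 104000 8000 = true := by decide +kernel
theorem table_word9_14 : PTab.fixL [fast6, fast3, fast6, fast3] 112000 8000 = true := by decide +kernel
theorem table_word9_15 : PTab.fixL [fast6, fast3, fast6, fast3] 120000 2760 = true := by decide +kernel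
theorem table_word10_0 : PTab.fixL [fast7, fast3, fast7, fast3] 0 8000 = true := by decide +kernel
theorem table_word10_1 : PTab.fixL [fast7, fast3, fast7, fast3] 8000 8000 = true := by decide +kernel
theorem table_word10_2 : PTab.fixL [fast7, fast3, fast7, fast3] 16000 8000 = true := by decide +kernel
theorem table_word10_3 : PTab.fixL [fast7, fast3, fast7, fast3] 24000 8000 = true := by decide +kernel
theorem table_word10_4 : PTab.fixL [fast7, fast3, fast7, fast3] 32000 8000 = true := by decide +kernel
theorem table_word10_5 : PTab.fixL [fast7, fast3, fast7, fast3] 40000 8000 = true := by decide +kernel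
theorem table_word10_6 : PTab.fixL [fast7, fast3, fast7, fast3] 48000 8000 = true := by decide +kernel
theorem table_word10_7 : PTab.fixL [fast7, fast3, fast7, fast3] 56000 8000 = true := by decide +kernel
theorem table_word10_8 : PTab.fixL [fast7, fast3, fast7, fast3] 64000 8000 = true := by decide +kernel
theorem table_word10_9 : PTab.fixL [fast7, fast3, fast7, fast3] 72000 8000 = true := by decide +kernel
theorem table_word10_10 : PTab.fixL [fast7, fast3, fast7, fast3] 80000 8000 = true := by decide +kernel
theorem table_word10_11 : PTab.fixL [fast7, fast3, fast7, fast3] 88000 8000 = true := by decide +kernel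
theorem table_word10_12 : PTab.fixL [fast7, fast3, fast7, fast3] 96000 8000 = true := by decide +kernel
theorem table_word10_13 : PTab.fixL [fast7, fast3, fast7, fast3] 104000 8000 = true := by decide +kernel
theorem table_word10_14 : PTab.fixL [fast7, fast3, fast7, fast3] 112000 8000 = true := by decide +kernel
theorem table_word10_15 : PTab.fixL [fast7, fast3, fast7, fast3] 120000 2760 = true := by decide +kernel
theorem table_word11_0 : PTab.fixL [fast4, fast4] 0 8000 = true := by decide +kernel
theorem table_word11_1 : PTab.fixL [fast4, fast4] 8000 8000 = true := by decide +kernel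
theorem table_word11_2 : PTab.fixL [fast4, fast4] 16000 8000 = true := by decide +kernel
theorem table_word11_3 : PTab.fixL [fast4, fast4] 24000 8000 = true := by decide +kernel
theorem table_word11_4 : PTab.fixL [fast4, fast4] 32000 8000 = true := by decide +kernel
theorem table_word11_5 : PTab.fixL [fast4, fast4] 40000 8000 = true := by decide +kernel
theorem table_word11_6 : PTab.fixL [fast4, fast4] 48000 8000 = true := by decide +kernel
theorem table_word11_7 : PTab.fixL [fast4, fast4] 56000 8000 = true := by decide +kernel
theorem table_word11_8 : PTab.fixL [fast4, fast4] 64000 8000 = true := by decide +kernel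
theorem table_word11_9 : PTab.fixL [fast4, fast4] 72000 8000 = true := by decide +kernel
theorem table_word11_10 : PTab.fixL [fast4, fast4] 80000 8000 = true := by decide +kernel
theorem table_word11_11 : PTab.fixL [fast4, fast4] 88000 8000 = true := by decide +kernel
theorem table_word11_12 : PTab.fixL [fast4, fast4] 96000 8000 = true := by decide +kernel
theorem table_word11_13 : PTab.fixL [fast4, fast4] 104000 8000 = true := by decide +kernel

end CfsgLib.Sporadic.CosetCert.ONData
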