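import Cfsg.Agent.Lib.Sporadic.ONData.ONFast

/-!
# Words act trivially, part 4

Machine-generated data and the kernel checks on it.
-/

set_option maxRecDepth 100000
set_option Elab.async false

namespace CfsgLib.Sporadic.CosetCert.ONData

theorem table_word11_14 : PTab.fixL [fast4, fast4] 112000 8000 = true := by decide +kernel
theorem table_word11_15 : PTab.fixL [fast4, fast4] 120000 2760 = true := by decide +kernel
theorem table_word12_0 : PTab.fixL [fast5, fast4, fast5, fast4, fast5, fast4, fast5, fast4, fast5, fast4, fast5, fast4, fast5, fast4, fast5, fast4] 0 4000 = true := by decide +kernel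
theorem table_word12_1 : PTab.fixL [fast5, fast4, fast5, fast4, fast5, fast4, fast5, fast4, fast5, fast4, fast5, fast4, fast5, fast4, fast5, fast4] 4000 4000 = true := by decide +kernel
theorem table_word12_2 : PTab.fixL [fast5, fast4, fast5, fast4, fast5, fast4, fast5, fast4, fast5, fast4, fast5, fast4, fast5, fast4, fast5, fast4] 8000 4000 = true := by decide +kernel
theorem table_word12_3 : PTab.fixL [fast5, fast4, fast5, fast4, fast5, fast4, fast5, fast4, fast5, fast4, fast5, fast4, fast5, fast4, fast5, fast4] 12000 4000 = true := by decide +kernel
theorem table_word12_4 : PTab.fixL [fast5, fast4, fast5, fast4, fast5, fast4, fast5, fast4, fast5, fast4, fast5, fast4, fast5, fast4, fast5, fast4] 16000 4000 = true := by decide +kernel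
theorem table_word12_5 : PTab.fixL [fast5, fast4, fast5, fast4, fast5, fast4, fast5, fast4, fast5, fast4, fast5, fast4, fast5, fast4, fast5, fast4] 20000 4000 = true := by decide +kernel
theorem table_word12_6 : PTab.fixL [fast5, fast4, fast5, fast4, fast5, fast4, fast5, fast4, fast5, fast4, fast5, fast4, fast5, fast4, fast5, fast4] 24000 4000 = true := by decide +kernel
theorem table_word12_7 : PTab.fixL [fast5, fast4, fast5, fast4, fast5, fast4, fast5, fast4, fast5, fast4, fast5, fast4, fast5, fast4, fast5, fast4] 28000 4000 = true := by decide +kernel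
theorem table_word12_8 : PTab.fixL [fast5, fast4, fast5, fast4, fast5, fast4, fast5, fast4, fast5, fast4, fast5, fast4, fast5, fast4, fast5, fast4] 32000 4000 = true := by decide +kernel
theorem table_word12_9 : PTab.fixL [fast5, fast4, fast5, fast4, fast5, fast4, fast5, fast4, fast5, fast4, fast5, fast4, fast5, fast4, fast5, fast4] 36000 4000 = true := by decide +kernel
theorem table_word12_10 : PTab.fixL [fast5, fast4, fast5, fast4, fast5, fast4, fast5, fast4, fast5, fast4, fast5, fast4, fast5, fast4, fast5, fast4] 40000 4000 = true := by decide +kernel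
theorem table_word12_11 : PTab.fixL [fast5, fast4, fast5, fast4, fast5, fast4, fast5, fast4, fast5, fast4, fast5, fast4, fast5, fast4, fast5, fast4] 44000 4000 = true := by decide +kernel
theorem table_word12_12 : PTab.fixL [fast5, fast4, fast5, fast4, fast5, fast4, fast5, fast4, fast5, fast4, fast5, fast4, fast5, fast4, fast5, fast4] 48000 4000 = true := by decide +kernel
theorem table_word12_13 : PTab.fixL [fast5, fast4, fast5, fast4, fast5, fast4, fast5, fast4, fast5, fast4, fast5, fast4, fast5, fast4, fast5, fast4] 52000 4000 = true := by decide +kernel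
theorem table_word12_14 : PTab.fixL [fast5, fast4, fast5, fast4, fast5, fast4, fast5, fast4, fast5, fast4, fast5, fast4, fast5, fast4, fast5, fast4] 56000 4000 = true := by decide +kernel
theorem table_word12_15 : PTab.fixL [fast5, fast4, fast5, fast4, fast5, fast4, fast5, fast4, fast5, fast4, fast5, fast4, fast5, fast4, fast5, fast4] 60000 4000 = true := by decide +kernel
theorem table_word12_16 : PTab.fixL [fast5, fast4, fast5, fast4, fast5, fast4, fast5, fast4, fast5, fast4, fast5, fast4, fast5, fast4, fast5, fast4] 64000 4000 = true := by decide +kernel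
theorem table_word12_17 : PTab.fixL [fast5, fast4, fast5, fast4, fast5, fast4, fast5, fast4, fast5, fast4, fast5, fast4, fast5, fast4, fast5, fast4] 68000 4000 = true := by decide +kernel
theorem table_word12_18 : PTab.fixL [fast5, fast4, fast5, fast4, fast5, fast4, fast5, fast4, fast5, fast4, fast5, fast4, fast5, fast4, fast5, fast4] 72000 4000 = true := by decide +kernel
theorem table_word12_19 : PTab.fixL [fast5, fast4, fast5, fast4, fast5, fast4, fast5, fast4, fast5, fast4, fast5, fast4, fast5, fast4, fast5, fast4] 76000 4000 = true := by decide +kernel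
theorem table_word12_20 : PTab.fixL [fast5, fast4, fast5, fast4, fast5, fast4, fast5, fast4, fast5, fast4, fast5, fast4, fast5, fast4, fast5, fast4] 80000 4000 = true := by decide +kernel
theorem table_word12_21 : PTab.fixL [fast5, fast4, fast5, fast4, fast5, fast4, fast5, fast4, fast5, fast4, fast5, fast4, fast5, fast4, fast5, fast4] 84000 4000 = true := by decide +kernel
theorem table_word12_22 : PTab.fixL [fast5, fast4, fast5, fast4, fast5, fast4, fast5, fast4, fast5, fast4, fast5, fast4, fast5, fast4, fast5, fast4] 88000 4000 = true := by decide +kernel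
theorem table_word12_23 : PTab.fixL [fast5, fast4, fast5, fast4, fast5, fast4, fast5, fast4, fast5, fast4, fast5, fast4, fast5, fast4, fast5, fast4] 92000 4000 = true := by decide +kernel
theorem table_word12_24 : PTab.fixL [fast5, fast4, fast5, fast4, fast5, fast4, fast5, fast4, fast5, fast4, fast5, fast4, fast5, fast4, fast5, fast4] 96000 4000 = true := by decide +kernel

end CfsgLib.Sporadic.CosetCert.ONData
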