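import Cfsg.Agent.Lib.Sporadic.ONData.ONFast

/-!
# Words act trivially, part 5

Machine-generated data and the kernel checks on it.
-/

set_option maxRecDepth 100000
set_option Elab.async false

namespace CfsgLib.Sporadic.CosetCert.ONData

theorem table_word12_25 : PTab.fixL [fast5, fast4, fast5, fast4, fast5, fast4, fast5, fast4, fast5, fast4, fast5, fast4, fast5, fast4, fast5, fast4] 100000 4000 = true := by decide +kernel
theorem table_word12_26 : PTab.fixL [fast5, fast4, fast5, fast4, fast5, fast4, fast5, fast4, fast5, fast4, fast5, fast4, fast5, fast4, fast5, fast4] 104000 4000 = true := by decide +kernel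
theorem table_word12_27 : PTab.fixL [fast5, fast4, fast5, fast4, fast5, fast4, fast5, fast4, fast5, fast4, fast5, fast4, fast5, fast4, fast5, fast4] 108000 4000 = true := by decide +kernel
theorem table_word12_28 : PTab.fixL [fast5, fast4, fast5, fast4, fast5, fast4, fast5, fast4, fast5, fast4, fast5, fast4, fast5, fast4, fast5, fast4] 112000 4000 = true := by decide +kernel
theorem table_word12_29 : PTab.fixL [fast5, fast4, fast5, fast4, fast5, fast4, fast5, fast4, fast5, fast4, fast5, fast4, fast5, fast4, fast5, fast4] 116000 4000 = true := by decide +kernel
theorem table_word12_30 : PTab.fixL [fast5, fast4, fast5, fast4, fast5, fast4, fast5, fast4, fast5, fast4, fast5, fast4, fast5, fast4, fast5, fast4] 120000 2760 = true := by decide +kernel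
theorem table_word13_0 : PTab.fixL [fast6, fast4, fast6, fast4] 0 8000 = true := by decide +kernel
theorem table_word13_1 : PTab.fixL [fast6, fast4, fast6, fast4] 8000 8000 = true := by decide +kernel
theorem table_word13_2 : PTab.fixL [fast6, fast4, fast6, fast4] 16000 8000 = true := by decide +kernel
theorem table_word13_3 : PTab.fixL [fast6, fast4, fast6, fast4] 24000 8000 = true := by decide +kernel
theorem table_word13_4 : PTab.fixL [fast6, fast4, fast6, fast4] 32000 8000 = true := by decide +kernel
theorem table_word13_5 : PTab.fixL [fast6, fast4, fast6, fast4] 40000 8000 = true := by decide +kernel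
theorem table_word13_6 : PTab.fixL [fast6, fast4, fast6, fast4] 48000 8000 = true := by decide +kernel
theorem table_word13_7 : PTab.fixL [fast6, fast4, fast6, fast4] 56000 8000 = true := by decide +kernel
theorem table_word13_8 : PTab.fixL [fast6, fast4, fast6, fast4] 64000 8000 = true := by decide +kernel
theorem table_word13_9 : PTab.fixL [fast6, fast4, fast6, fast4] 72000 8000 = true := by decide +kernel
theorem table_word13_10 : PTab.fixL [fast6, fast4, fast6, fast4] 80000 8000 = true := by decide +kernel
theorem table_word13_11 : PTab.fixL [fast6, fast4, fast6, fast4] 88000 8000 = true := by decide +kernel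
theorem table_word13_12 : PTab.fixL [fast6, fast4, fast6, fast4] 96000 8000 = true := by decide +kernel
theorem table_word13_13 : PTab.fixL [fast6, fast4, fast6, fast4] 104000 8000 = true := by decide +kernel
theorem table_word13_14 : PTab.fixL [fast6, fast4, fast6, fast4] 112000 8000 = true := by decide +kernel
theorem table_word13_15 : PTab.fixL [fast6, fast4, fast6, fast4] 120000 2760 = true := by decide +kernel
theorem table_word14_0 : PTab.fixL [fast7, fast4, fast7, fast4] 0 8000 = true := by decide +kernel
theorem table_word14_1 : PTab.fixL [fast7, fast4, fast7, fast4] 8000 8000 = true := by decide +kernel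
theorem table_word14_2 : PTab.fixL [fast7, fast4, fast7, fast4] 16000 8000 = true := by decide +kernel
theorem table_word14_3 : PTab.fixL [fast7, fast4, fast7, fast4] 24000 8000 = true := by decide +kernel
theorem table_word14_4 : PTab.fixL [fast7, fast4, fast7, fast4] 32000 8000 = true := by decide +kernel
theorem table_word14_5 : PTab.fixL [fast7, fast4, fast7, fast4] 40000 8000 = true := by decide +kernel
theorem table_word14_6 : PTab.fixL [fast7, fast4, fast7, fast4] 48000 8000 = true := by decide +kernel
theorem table_word14_7 : PTab.fixL [fast7, fast4, fast7, fast4] 56000 8000 = true := by decide +kernel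
theorem table_word14_8 : PTab.fixL [fast7, fast4, fast7, fast4] 64000 8000 = true := by decide +kernel
theorem table_word14_9 : PTab.fixL [fast7, fast4, fast7, fast4] 72000 8000 = true := by decide +kernel
theorem table_word14_10 : PTab.fixL [fast7, fast4, fast7, fast4] 80000 8000 = true := by decide +kernel
theorem table_word14_11 : PTab.fixL [fast7, fast4, fast7, fast4] 88000 8000 = true := by decide +kernel
theorem table_word14_12 : PTab.fixL [fast7, fast4, fast7, fast4] 96000 8000 = true := by decide +kernel
theorem table_word14_13 : PTab.fixL [fast7, fast4, fast7, fast4] 104000 8000 = true := by decide +kernel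
theorem table_word14_14 : PTab.fixL [fast7, fast4, fast7, fast4] 112000 8000 = true := by decide +kernel
theorem table_word14_15 : PTab.fixL [fast7, fast4, fast7, fast4] 120000 2760 = true := by decide +kernel
theorem table_word15_0 : PTab.fixL [fast5, fast5] 0 8000 = true := by decide +kernel
theorem table_word15_1 : PTab.fixL [fast5, fast5] 8000 8000 = true := by decide +kernel
theorem table_word15_2 : PTab.fixL [fast5, fast5] 16000 8000 = true := by decide +kernel
theorem table_word15_3 : PTab.fixL [fast5, fast5] 24000 8000 = true := by decide +kernel
theorem table_word15_4 : PTab.fixL [fast5, fast5] 32000 8000 = true := by decide +kernel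
theorem table_word15_5 : PTab.fixL [fast5, fast5] 40000 8000 = true := by decide +kernel
theorem table_word15_6 : PTab.fixL [fast5, fast5] 48000 8000 = true := by decide +kernel

end CfsgLib.Sporadic.CosetCert.ONData
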