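import Cfsg.Agent.Lib.Sporadic.ONData.ONFast

/-!
# Words act trivially, part 6

Machine-generated data and the kernel checks on it.
-/

set_option maxRecDepth 100000
set_option Elab.async false

namespace CfsgLib.Sporadic.CosetCert.ONData

theorem table_word15_7 : PTab.fixL [fast5, fast5] 56000 8000 = true := by decide +kernel
theorem table_word15_8 : PTab.fixL [fast5, fast5] 64000 8000 = true := by decide +kernel
theorem table_word15_9 : PTab.fixL [fast5, fast5] 72000 8000 = true := by decide +kernel
theorem table_word15_10 : PTab.fixL [fast5, fast5] 80000 8000 = true := by decide +kernel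
theorem table_word15_11 : PTab.fixL [fast5, fast5] 88000 8000 = true := by decide +kernel
theorem table_word15_12 : PTab.fixL [fast5, fast5] 96000 8000 = true := by decide +kernel
theorem table_word15_13 : PTab.fixL [fast5, fast5] 104000 8000 = true := by decide +kernel
theorem table_word15_14 : PTab.fixL [fast5, fast5] 112000 8000 = true := by decide +kernel
theorem table_word15_15 : PTab.fixL [fast5, fast5] 120000 2760 = true := by decide +kernel
theorem table_word16_0 : PTab.fixL [fast6, fast5, fast6, fast5, fast6, fast5] 0 8000 = true := by decide +kernel
theorem table_word16_1 : PTab.fixL [fast6, fast5, fast6, fast5, fast6, fast5] 8000 8000 = true := by decide +kernel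
theorem table_word16_2 : PTab.fixL [fast6, fast5, fast6, fast5, fast6, fast5] 16000 8000 = true := by decide +kernel
theorem table_word16_3 : PTab.fixL [fast6, fast5, fast6, fast5, fast6, fast5] 24000 8000 = true := by decide +kernel
theorem table_word16_4 : PTab.fixL [fast6, fast5, fast6, fast5, fast6, fast5] 32000 8000 = true := by decide +kernel
theorem table_word16_5 : PTab.fixL [fast6, fast5, fast6, fast5, fast6, fast5] 40000 8000 = true := by decide +kernel
theorem table_word16_6 : PTab.fixL [fast6, fast5, fast6, fast5, fast6, fast5] 48000 8000 = true := by decide +kernel
theorem table_word16_7 : PTab.fixL [fast6, fast5, fast6, fast5, fast6, fast5] 56000 8000 = true := by decide +kernel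
theorem table_word16_8 : PTab.fixL [fast6, fast5, fast6, fast5, fast6, fast5] 64000 8000 = true := by decide +kernel
theorem table_word16_9 : PTab.fixL [fast6, fast5, fast6, fast5, fast6, fast5] 72000 8000 = true := by decide +kernel
theorem table_word16_10 : PTab.fixL [fast6, fast5, fast6, fast5, fast6, fast5] 80000 8000 = true := by decide +kernel
theorem table_word16_11 : PTab.fixL [fast6, fast5, fast6, fast5, fast6, fast5] 88000 8000 = true := by decide +kernel
theorem table_word16_12 : PTab.fixL [fast6, fast5, fast6, fast5, fast6, fast5] 96000 8000 = true := by decide +kernel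
theorem table_word16_13 : PTab.fixL [fast6, fast5, fast6, fast5, fast6, fast5] 104000 8000 = true := by decide +kernel
theorem table_word16_14 : PTab.fixL [fast6, fast5, fast6, fast5, fast6, fast5] 112000 8000 = true := by decide +kernel
theorem table_word16_15 : PTab.fixL [fast6, fast5, fast6, fast5, fast6, fast5] 120000 2760 = true := by decide +kernel
theorem table_word17_0 : PTab.fixL [fast7, fast5, fast7, fast5] 0 8000 = true := by decide +kernel
theorem table_word17_1 : PTab.fixL [fast7, fast5, fast7, fast5] 8000 8000 = true := by decide +kernel
theorem table_word17_2 : PTab.fixL [fast7, fast5, fast7, fast5] 16000 8000 = true := by decide +kernel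
theorem table_word17_3 : PTab.fixL [fast7, fast5, fast7, fast5] 24000 8000 = true := by decide +kernel
theorem table_word17_4 : PTab.fixL [fast7, fast5, fast7, fast5] 32000 8000 = true := by decide +kernel
theorem table_word17_5 : PTab.fixL [fast7, fast5, fast7, fast5] 40000 8000 = true := by decide +kernel
theorem table_word17_6 : PTab.fixL [fast7, fast5, fast7, fast5] 48000 8000 = true := by decide +kernel
theorem table_word17_7 : PTab.fixL [fast7, fast5, fast7, fast5] 56000 8000 = true := by decide +kernel
theorem table_word17_8 : PTab.fixL [fast7, fast5, fast7, fast5] 64000 8000 = true := by decide +kernel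
theorem table_word17_9 : PTab.fixL [fast7, fast5, fast7, fast5] 72000 8000 = true := by decide +kernel
theorem table_word17_10 : PTab.fixL [fast7, fast5, fast7, fast5] 80000 8000 = true := by decide +kernel
theorem table_word17_11 : PTab.fixL [fast7, fast5, fast7, fast5] 88000 8000 = true := by decide +kernel
theorem table_word17_12 : PTab.fixL [fast7, fast5, fast7, fast5] 96000 8000 = true := by decide +kernel
theorem table_word17_13 : PTab.fixL [fast7, fast5, fast7, fast5] 104000 8000 = true := by decide +kernel
theorem table_word17_14 : PTab.fixL [fast7, fast5, fast7, fast5] 112000 8000 = true := by decide +kernel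
theorem table_word17_15 : PTab.fixL [fast7, fast5, fast7, fast5] 120000 2760 = true := by decide +kernel
theorem table_word18_0 : PTab.fixL [fast6, fast6] 0 8000 = true := by decide +kernel
theorem table_word18_1 : PTab.fixL [fast6, fast6] 8000 8000 = true := by decide +kernel
theorem table_word18_2 : PTab.fixL [fast6, fast6] 16000 8000 = true := by decide +kernel
theorem table_word18_3 : PTab.fixL [fast6, fast6] 24000 8000 = true := by decide +kernel
theorem table_word18_4 : PTab.fixL [fast6, fast6] 32000 8000 = true := by decide +kernel

end CfsgLib.Sporadic.CosetCert.ONData
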