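import Cfsg.Agent.Lib.Sporadic.ONData.ONFast

/-!
# Words act trivially, part 7

Machine-generated data and the kernel checks on it.
-/

set_option maxRecDepth 100000
set_option Elab.async false

namespace CfsgLib.Sporadic.CosetCert.ONData

theorem table_word18_5 : PTab.fixL [fast6, fast6] 40000 8000 = true := by decide +kernel
theorem table_word18_6 : PTab.fixL [fast6, fast6] 48000 8000 = true := by decide +kernel
theorem table_word18_7 : PTab.fixL [fast6, fast6] 56000 8000 = true := by decide +kernel
theorem table_word18_8 : PTab.fixL [fast6, fast6] 64000 8000 = true := by decide +kernel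
theorem table_word18_9 : PTab.fixL [fast6, fast6] 72000 8000 = true := by decide +kernel
theorem table_word18_10 : PTab.fixL [fast6, fast6] 80000 8000 = true := by decide +kernel
theorem table_word18_11 : PTab.fixL [fast6, fast6] 88000 8000 = true := by decide +kernel
theorem table_word18_12 : PTab.fixL [fast6, fast6] 96000 8000 = true := by decide +kernel
theorem table_word18_13 : PTab.fixL [fast6, fast6] 104000 8000 = true := by decide +kernel
theorem table_word18_14 : PTab.fixL [fast6, fast6] 112000 8000 = true := by decide +kernel
theorem table_word18_15 : PTab.fixL [fast6, fast6] 120000 2760 = true := by decide +kernel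
theorem table_word19_0 : PTab.fixL [fast7, fast6, fast7, fast6, fast7, fast6] 0 8000 = true := by decide +kernel
theorem table_word19_1 : PTab.fixL [fast7, fast6, fast7, fast6, fast7, fast6] 8000 8000 = true := by decide +kernel
theorem table_word19_2 : PTab.fixL [fast7, fast6, fast7, fast6, fast7, fast6] 16000 8000 = true := by decide +kernel
theorem table_word19_3 : PTab.fixL [fast7, fast6, fast7, fast6, fast7, fast6] 24000 8000 = true := by decide +kernel
theorem table_word19_4 : PTab.fixL [fast7, fast6, fast7, fast6, fast7, fast6] 32000 8000 = true := by decide +kernel
theorem table_word19_5 : PTab.fixL [fast7, fast6, fast7, fast6, fast7, fast6] 40000 8000 = true := by decide +kernel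
theorem table_word19_6 : PTab.fixL [fast7, fast6, fast7, fast6, fast7, fast6] 48000 8000 = true := by decide +kernel
theorem table_word19_7 : PTab.fixL [fast7, fast6, fast7, fast6, fast7, fast6] 56000 8000 = true := by decide +kernel
theorem table_word19_8 : PTab.fixL [fast7, fast6, fast7, fast6, fast7, fast6] 64000 8000 = true := by decide +kernel
theorem table_word19_9 : PTab.fixL [fast7, fast6, fast7, fast6, fast7, fast6] 72000 8000 = true := by decide +kernel
theorem table_word19_10 : PTab.fixL [fast7, fast6, fast7, fast6, fast7, fast6] 80000 8000 = true := by decide +kernel
theorem table_word19_11 : PTab.fixL [fast7, fast6, fast7, fast6, fast7, fast6] 88000 8000 = true := by decide +kernel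
theorem table_word19_12 : PTab.fixL [fast7, fast6, fast7, fast6, fast7, fast6] 96000 8000 = true := by decide +kernel
theorem table_word19_13 : PTab.fixL [fast7, fast6, fast7, fast6, fast7, fast6] 104000 8000 = true := by decide +kernel
theorem table_word19_14 : PTab.fixL [fast7, fast6, fast7, fast6, fast7, fast6] 112000 8000 = true := by decide +kernel
theorem table_word19_15 : PTab.fixL [fast7, fast6, fast7, fast6, fast7, fast6] 120000 2760 = true := by decide +kernel
theorem table_word20_0 : PTab.fixL [fast7, fast7] 0 8000 = true := by decide +kernel
theorem table_word20_1 : PTab.fixL [fast7, fast7] 8000 8000 = true := by decide +kernel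
theorem table_word20_2 : PTab.fixL [fast7, fast7] 16000 8000 = true := by decide +kernel
theorem table_word20_3 : PTab.fixL [fast7, fast7] 24000 8000 = true := by decide +kernel
theorem table_word20_4 : PTab.fixL [fast7, fast7] 32000 8000 = true := by decide +kernel
theorem table_word20_5 : PTab.fixL [fast7, fast7] 40000 8000 = true := by decide +kernel
theorem table_word20_6 : PTab.fixL [fast7, fast7] 48000 8000 = true := by decide +kernel
theorem table_word20_7 : PTab.fixL [fast7, fast7] 56000 8000 = true := by decide +kernel
theorem table_word20_8 : PTab.fixL [fast7, fast7] 64000 8000 = true := by decide +kernel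
theorem table_word20_9 : PTab.fixL [fast7, fast7] 72000 8000 = true := by decide +kernel
theorem table_word20_10 : PTab.fixL [fast7, fast7] 80000 8000 = true := by decide +kernel
theorem table_word20_11 : PTab.fixL [fast7, fast7] 88000 8000 = true := by decide +kernel
theorem table_word20_12 : PTab.fixL [fast7, fast7] 96000 8000 = true := by decide +kernel
theorem table_word20_13 : PTab.fixL [fast7, fast7] 104000 8000 = true := by decide +kernel
theorem table_word20_14 : PTab.fixL [fast7, fast7] 112000 8000 = true := by decide +kernel
theorem table_word20_15 : PTab.fixL [fast7, fast7] 120000 2760 = true := by decide +kernel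
theorem table_word21_0 : PTab.fixL [fast1, fast1, fast7, fast2] 0 8000 = true := by decide +kernel
theorem table_word21_1 : PTab.fixL [fast1, fast1, fast7, fast2] 8000 8000 = true := by decide +kernel
theorem table_word21_2 : PTab.fixL [fast1, fast1, fast7, fast2] 16000 8000 = true := by decide +kernel
theorem table_word21_3 : PTab.fixL [fast1, fast1, fast7, fast2] 24000 8000 = true := by decide +kernel
theorem table_word21_4 : PTab.fixL [fast1, fast1, fast7, fast2] 32000 8000 = true := by decide +kernel
theorem table_word21_5 : PTab.fixL [fast1, fast1, fast7, fast2] 40000 8000 = true := by decide +kernel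
theorem table_word21_6 : PTab.fixL [fast1, fast1, fast7, fast2] 48000 8000 = true := by decide +kernel
theorem table_word21_7 : PTab.fixL [fast1, fast1, fast7, fast2] 56000 8000 = true := by decide +kernel

end CfsgLib.Sporadic.CosetCert.ONData
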