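import Cfsg.Agent.Lib.Sporadic.ONData.ONFast

/-!
# Words act trivially, part 8

Machine-generated data and the kernel checks on it.
-/

set_option maxRecDepth 100000
set_option Elab.async false

namespace CfsgLib.Sporadic.CosetCert.ONData

theorem table_word21_8 : PTab.fixL [fast1, fast1, fast7, fast2] 64000 8000 = true := by decide +kernel
theorem table_word21_9 : PTab.fixL [fast1, fast1, fast7, fast2] 72000 8000 = true := by decide +kernel
theorem table_word21_10 : PTab.fixL [fast1, fast1, fast7, fast2] 80000 8000 = true := by decide +kernel
theorem table_word21_11 : PTab.fixL [fast1, fast1, fast7, fast2] 88000 8000 = true := by decide +kernel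
theorem table_word21_12 : PTab.fixL [fast1, fast1, fast7, fast2] 96000 8000 = true := by decide +kernel
theorem table_word21_13 : PTab.fixL [fast1, fast1, fast7, fast2] 104000 8000 = true := by decide +kernel
theorem table_word21_14 : PTab.fixL [fast1, fast1, fast7, fast2] 112000 8000 = true := by decide +kernel
theorem table_word21_15 : PTab.fixL [fast1, fast1, fast7, fast2] 120000 2760 = true := by decide +kernel
theorem table_word22_0 : PTab.fixL [fast4, fast5, fast4, fast5, fast4, fast5, fast4, fast5, fast7, fast2] 0 6400 = true := by decide +kernel
theorem table_word22_1 : PTab.fixL [fast4, fast5, fast4, fast5, fast4, fast5, fast4, fast5, fast7, fast2] 6400 6400 = true := by decide +kernel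
theorem table_word22_2 : PTab.fixL [fast4, fast5, fast4, fast5, fast4, fast5, fast4, fast5, fast7, fast2] 12800 6400 = true := by decide +kernel
theorem table_word22_3 : PTab.fixL [fast4, fast5, fast4, fast5, fast4, fast5, fast4, fast5, fast7, fast2] 19200 6400 = true := by decide +kernel
theorem table_word22_4 : PTab.fixL [fast4, fast5, fast4, fast5, fast4, fast5, fast4, fast5, fast7, fast2] 25600 6400 = true := by decide +kernel
theorem table_word22_5 : PTab.fixL [fast4, fast5, fast4, fast5, fast4, fast5, fast4, fast5, fast7, fast2] 32000 6400 = true := by decide +kernel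
theorem table_word22_6 : PTab.fixL [fast4, fast5, fast4, fast5, fast4, fast5, fast4, fast5, fast7, fast2] 38400 6400 = true := by decide +kernel
theorem table_word22_7 : PTab.fixL [fast4, fast5, fast4, fast5, fast4, fast5, fast4, fast5, fast7, fast2] 44800 6400 = true := by decide +kernel
theorem table_word22_8 : PTab.fixL [fast4, fast5, fast4, fast5, fast4, fast5, fast4, fast5, fast7, fast2] 51200 6400 = true := by decide +kernel
theorem table_word22_9 : PTab.fixL [fast4, fast5, fast4, fast5, fast4, fast5, fast4, fast5, fast7, fast2] 57600 6400 = true := by decide +kernel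
theorem table_word22_10 : PTab.fixL [fast4, fast5, fast4, fast5, fast4, fast5, fast4, fast5, fast7, fast2] 64000 6400 = true := by decide +kernel
theorem table_word22_11 : PTab.fixL [fast4, fast5, fast4, fast5, fast4, fast5, fast4, fast5, fast7, fast2] 70400 6400 = true := by decide +kernel
theorem table_word22_12 : PTab.fixL [fast4, fast5, fast4, fast5, fast4, fast5, fast4, fast5, fast7, fast2] 76800 6400 = true := by decide +kernel
theorem table_word22_13 : PTab.fixL [fast4, fast5, fast4, fast5, fast4, fast5, fast4, fast5, fast7, fast2] 83200 6400 = true := by decide +kernel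
theorem table_word22_14 : PTab.fixL [fast4, fast5, fast4, fast5, fast4, fast5, fast4, fast5, fast7, fast2] 89600 6400 = true := by decide +kernel
theorem table_word22_15 : PTab.fixL [fast4, fast5, fast4, fast5, fast4, fast5, fast4, fast5, fast7, fast2] 96000 6400 = true := by decide +kernel
theorem table_word22_16 : PTab.fixL [fast4, fast5, fast4, fast5, fast4, fast5, fast4, fast5, fast7, fast2] 102400 6400 = true := by decide +kernel
theorem table_word22_17 : PTab.fixL [fast4, fast5, fast4, fast5, fast4, fast5, fast4, fast5, fast7, fast2] 108800 6400 = true := by decide +kernel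
theorem table_word22_18 : PTab.fixL [fast4, fast5, fast4, fast5, fast4, fast5, fast4, fast5, fast7, fast2] 115200 6400 = true := by decide +kernel
theorem table_word22_19 : PTab.fixL [fast4, fast5, fast4, fast5, fast4, fast5, fast4, fast5, fast7, fast2] 121600 1160 = true := by decide +kernel
theorem table_word23_0 : PTab.fixL [fast0, fast5, fast0, fast5, fast4, fast5, fast1, fast5, fast1, fast4] 0 6400 = true := by decide +kernel
theorem table_word23_1 : PTab.fixL [fast0, fast5, fast0, fast5, fast4, fast5, fast1, fast5, fast1, fast4] 6400 6400 = true := by decide +kernel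

end CfsgLib.Sporadic.CosetCert.ONData
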