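import Cfsg.Agent.Lib.Sporadic.ONData.ONFast

/-!
# Words act trivially, part 9

Machine-generated data and the kernel checks on it.
-/

set_option maxRecDepth 100000
set_option Elab.async false

namespace CfsgLib.Sporadic.CosetCert.ONData

theorem table_word23_2 : PTab.fixL [fast0, fast5, fast0, fast5, fast4, fast5, fast1, fast5, fast1, fast4] 12800 6400 = true := by decide +kernel
theorem table_word23_3 : PTab.fixL [fast0, fast5, fast0, fast5, fast4, fast5, fast1, fast5, fast1, fast4] 19200 6400 = true := by decide +kernel
theorem table_word23_4 : PTab.fixL [fast0, fast5, fast0, fast5, fast4, fast5, fast1, fast5, fast1, fast4] 25600 6400 = true := by decide +kernel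
theorem table_word23_5 : PTab.fixL [fast0, fast5, fast0, fast5, fast4, fast5, fast1, fast5, fast1, fast4] 32000 6400 = true := by decide +kernel
theorem table_word23_6 : PTab.fixL [fast0, fast5, fast0, fast5, fast4, fast5, fast1, fast5, fast1, fast4] 38400 6400 = true := by decide +kernel
theorem table_word23_7 : PTab.fixL [fast0, fast5, fast0, fast5, fast4, fast5, fast1, fast5, fast1, fast4] 44800 6400 = true := by decide +kernel
theorem table_word23_8 : PTab.fixL [fast0, fast5, fast0, fast5, fast4, fast5, fast1, fast5, fast1, fast4] 51200 6400 = true := by decide +kernel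
theorem table_word23_9 : PTab.fixL [fast0, fast5, fast0, fast5, fast4, fast5, fast1, fast5, fast1, fast4] 57600 6400 = true := by decide +kernel
theorem table_word23_10 : PTab.fixL [fast0, fast5, fast0, fast5, fast4, fast5, fast1, fast5, fast1, fast4] 64000 6400 = true := by decide +kernel
theorem table_word23_11 : PTab.fixL [fast0, fast5, fast0, fast5, fast4, fast5, fast1, fast5, fast1, fast4] 70400 6400 = true := by decide +kernel
theorem table_word23_12 : PTab.fixL [fast0, fast5, fast0, fast5, fast4, fast5, fast1, fast5, fast1, fast4] 76800 6400 = true := by decide +kernel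
theorem table_word23_13 : PTab.fixL [fast0, fast5, fast0, fast5, fast4, fast5, fast1, fast5, fast1, fast4] 83200 6400 = true := by decide +kernel
theorem table_word23_14 : PTab.fixL [fast0, fast5, fast0, fast5, fast4, fast5, fast1, fast5, fast1, fast4] 89600 6400 = true := by decide +kernel
theorem table_word23_15 : PTab.fixL [fast0, fast5, fast0, fast5, fast4, fast5, fast1, fast5, fast1, fast4] 96000 6400 = true := by decide +kernel
theorem table_word23_16 : PTab.fixL [fast0, fast5, fast0, fast5, fast4, fast5, fast1, fast5, fast1, fast4] 102400 6400 = true := by decide +kernel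
theorem table_word23_17 : PTab.fixL [fast0, fast5, fast0, fast5, fast4, fast5, fast1, fast5, fast1, fast4] 108800 6400 = true := by decide +kernel
theorem table_word23_18 : PTab.fixL [fast0, fast5, fast0, fast5, fast4, fast5, fast1, fast5, fast1, fast4] 115200 6400 = true := by decide +kernel
theorem table_word23_19 : PTab.fixL [fast0, fast5, fast0, fast5, fast4, fast5, fast1, fast5, fast1, fast4] 121600 1160 = true := by decide +kernel
theorem table_word24_0 : PTab.fixL [fast0, fast4, fast0, fast4, fast5, fast4, fast1, fast4, fast1, fast5] 0 6400 = true := by decide +kernel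
theorem table_word24_1 : PTab.fixL [fast0, fast4, fast0, fast4, fast5, fast4, fast1, fast4, fast1, fast5] 6400 6400 = true := by decide +kernel
theorem table_word24_2 : PTab.fixL [fast0, fast4, fast0, fast4, fast5, fast4, fast1, fast4, fast1, fast5] 12800 6400 = true := by decide +kernel
theorem table_word24_3 : PTab.fixL [fast0, fast4, fast0, fast4, fast5, fast4, fast1, fast4, fast1, fast5] 19200 6400 = true := by decide +kernel
theorem table_word24_4 : PTab.fixL [fast0, fast4, fast0, fast4, fast5, fast4, fast1, fast4, fast1, fast5] 25600 6400 = true := by decide +kernel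
theorem table_word24_5 : PTab.fixL [fast0, fast4, fast0, fast4, fast5, fast4, fast1, fast4, fast1, fast5] 32000 6400 = true := by decide +kernel
theorem table_word24_6 : PTab.fixL [fast0, fast4, fast0, fast4, fast5, fast4, fast1, fast4, fast1, fast5] 38400 6400 = true := by decide +kernel
theorem table_word24_7 : PTab.fixL [fast0, fast4, fast0, fast4, fast5, fast4, fast1, fast4, fast1, fast5] 44800 6400 = true := by decide +kernel

end CfsgLib.Sporadic.CosetCert.ONData
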