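import Cfsg.Agent.Lib.Sporadic.ONData.ONWords0
import Cfsg.Agent.Lib.Sporadic.ONData.ONWords1
import Cfsg.Agent.Lib.Sporadic.ONData.ONWords2
import Cfsg.Agent.Lib.Sporadic.ONData.ONWords3
import Cfsg.Agent.Lib.Sporadic.ONData.ONWords4
import Cfsg.Agent.Lib.Sporadic.ONData.ONWords5
import Cfsg.Agent.Lib.Sporadic.ONData.ONWords6
import Cfsg.Agent.Lib.Sporadic.ONData.ONWords7
import Cfsg.Agent.Lib.Sporadic.ONData.ONWords8
import Cfsg.Agent.Lib.Sporadic.ONData.ONWords9
import Cfsg.Agent.Lib.Sporadic.ONData.ONWords10
import Cfsg.Agent.Lib.Sporadic.ONData.ONWords11
import Cfsg.Agent.Lib.Sporadic.ONData.ONWords12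
import Cfsg.Agent.Lib.Sporadic.ONData.ONWords13
import Cfsg.Agent.Lib.Sporadic.ONData.ONFastChecks
import Cfsg.Agent.Lib.Sporadic.ONData.ONCertGData

/-!
# Relators act trivially

Machine-generated data and the kernel checks on it.
-/

set_option maxRecDepth 100000
set_option Elab.async false

namespace CfsgLib.Sporadic.CosetCert.ONData

/-- The unpacked relators. -/
def relLetters : List (List ℕ) :=
  [[2, 2], [3, 2, 3, 2, 3, 2], [4, 2, 4, 2], [5, 2, 5, 2], [6, 2, 6, 2], [7, 2, 7, 2], [3, 3], [4, 3, 4, 3, 4, 3], [5, 3, 5, 3], [6, 3, 6, 3], [7, 3, 7, 3], [4, 4], [5, 4, 5, 4, 5, 4, 5, 4, 5, 4, 5, 4, 5, 4, 5, 4], [6, 4, 6, 4], [7, 4, 7, 4], [5, 5], [6, 5, 6, 5, 6, 5], [7, 5, 7, 5], [6, 6], [7, 6, 7, 6, 7, 6], [7, 7], [1, 1, 7, 2], [4, 5, 4, 5, 4, 5, 4, 5, 7, 2], [0, 5, 0, 5, 4, 5, 1, 5, 1, 4], [0, 4, 0, 4, 5, 4, 1, 4, 1, 5], [0, 5, 4, 3, 0, 5, 4, 3, 0, 5, 4, 3, 0, 5, 4, 3, 0, 5, 4, 3], [4, 0, 4, 3, 0, 3, 4, 0, 4, 3, 0], [5, 0, 5, 6, 0, 6, 5, 0, 5, 6, 0]]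

theorem relLetters_eq : ∀ i < certG.nr, PTab.unpack (certG.word i) = relLetters.getD i [] := by
  decide +kernel

theorem table_relators : ∀ i < certG.nr, ∀ u < table.N,
    table.run (certG.word i).1 (certG.word i).2 u = u := by
  intro i hi u hu
  rw [PTab.run_eq_imgW, relLetters_eq i hi]
  change i < 28 at hi
  have hu' : u < 122760 := hu
  match i, hi with
  | 0, _ => exact ((imgW_fast [2, 2] (by decide) u hu).1).trans ((range_split (range_split (range_split (range_split (PTab.fixL_spec table_word0_0) (PTab.fixL_spec table_word0_1)) (range_split (PTab.fixL_spec table_word0_2) (PTab.fixL_spec table_word0_3))) (range_split (range_split (PTab.fixL_spec table_word0_4) (PTab.fixL_spec table_word0_5)) (range_split (PTab.fixL_spec table_word0_6) (PTab.fixL_spec table_word0_7)))) (range_split (range_split (range_split (PTab.fixL_spec table_word0_8) (PTab.fixL_spec table_word0_9)) (range_split (PTab.fixL_spec table_word0_10) (PTab.fixL_spec table_word0_11))) (range_split (range_split (PTab.fixL_spec table_word0_12) (PTab.fixL_spec table_word0_13)) (range_split (PTab.fixL_spec table_word0_14) (PTab.fixL_spec table_word0_15))))) u (Nat.zero_le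 _) hu')
  | 1, _ => exact ((imgW_fast [3, 2, 3, 2, 3, 2] (by decide) u hu).1).trans ((range_split (range_split (range_split (range_split (PTab.fixL_spec table_word1_0) (PTab.fixL_spec table_word1_1)) (range_split (PTab.fixL_spec table_word1_2) (PTab.fixL_spec table_word1_3))) (range_split (range_split (PTab.fixL_spec table_word1_4) (PTab.fixL_spec table_word1_5)) (range_split (PTab.fixL_spec table_word1_6) (PTab.fixL_spec table_word1_7)))) (range_split (range_split (range_split (PTab.fixL_spec table_word1_8) (PTab.fixL_spec table_word1_9)) (range_split (PTab.fixL_spec table_word1_10) (PTab.fixL_spec table_word1_11))) (range_split (range_split (PTab.fixL_spec table_word1_12) (PTab.fixL_spec table_word1_13)) (range_split (PTab.fixL_spec table_word1_14) (PTab.fixL_spec table_word1_15))))) u (Nat.zero_le _) hu')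
  | 2, _ => exact ((imgW_fast [4, 2, 4, 2] (by decide) u hu).1).trans ((range_split (range_split (range_split (range_split (PTab.fixL_spec table_word2_0) (PTab.fixL_spec table_word2_1)) (range_split (PTab.fixL_spec table_word2_2) (PTab.fixL_spec table_word2_3))) (range_split (range_split (PTab.fixL_spec table_word2_4) (PTab.fixL_spec table_word2_5)) (range_split (PTab.fixL_spec table_word2_6) (PTab.fixL_spec table_word2_7)))) (range_split (range_split (range_split (PTab.fixL_spec table_word2_8) (PTab.fixL_spec table_word2_9)) (range_split (PTab.fixL_spec table_word2_10) (PTab.fixL_spec table_word2_11))) (range_split (range_split (PTab.fixL_spec table_word2_12) (PTab.fixL_spec table_word2_13)) (range_split (PTab.fixL_spec table_word2_14) (PTab.fixL_spec table_word2_15))))) u (Nat.zero_le _) hu')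
  | 3, _ => exact ((imgW_fast [5, 2, 5, 2] (by decide) u hu).1).trans ((range_split (range_split (range_split (range_split (PTab.fixL_spec table_word3_0) (PTab.fixL_spec table_word3_1)) (range_split (PTab.fixL_spec table_word3_2) (PTab.fixL_spec table_word3_3))) (range_split (range_split (PTab.fixL_spec table_word3_4) (PTab.fixL_spec table_word3_5)) (range_split (PTab.fixL_spec table_word3_6) (PTab.fixL_spec table_word3_7)))) (range_split (range_split (range_split (PTab.fixL_spec table_word3_8) (PTab.fixL_spec table_word3_9)) (range_split (PTab.fixL_spec table_word3_10) (PTab.fixL_spec table_word3_11))) (range_split (range_split (PTab.fixL_spec table_word3_12) (PTab.fixL_spec table_word3_13)) (range_split (PTab.fixL_spec table_word3_14) (PTab.fixL_spec table_word3_15))))) u (Nat.zero_le _) hu')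
  | 4, _ => exact ((imgW_fast [6, 2, 6, 2] (by decide) u hu).1).trans ((range_split (range_split (range_split (range_split (PTab.fixL_spec table_word4_0) (PTab.fixL_spec table_word4_1)) (range_split (PTab.fixL_spec table_word4_2) (PTab.fixL_spec table_word4_3))) (range_split (range_split (PTab.fixL_spec table_word4_4) (PTab.fixL_spec table_word4_5)) (range_split (PTab.fixL_spec table_word4_6) (PTab.fixL_spec table_word4_7)))) (range_split (range_split (range_split (PTab.fixL_spec table_word4_8) (PTab.fixL_spec table_word4_9)) (range_split (PTab.fixL_spec table_word4_10) (PTab.fixL_spec table_word4_11))) (range_split (range_split (PTab.fixL_spec table_word4_12) (PTab.fixL_spec table_word4_13)) (range_split (PTab.fixL_spec table_word4_14) (PTab.fixL_spec table_word4_15))))) u (Nat.zero_le _) hu')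
  | 5, _ => exact ((imgW_fast [7, 2, 7, 2] (by decide) u hu).1).trans ((range_split (range_split (range_split (range_split (PTab.fixL_spec table_word5_0) (PTab.fixL_spec table_word5_1)) (range_split (PTab.fixL_spec table_word5_2) (PTab.fixL_spec table_word5_3))) (range_split (range_split (PTab.fixL_spec table_word5_4) (PTab.fixL_spec table_word5_5)) (range_split (PTab.fixL_spec table_word5_6) (PTab.fixL_spec table_word5_7)))) (range_split (range_split (range_split (PTab.fixL_spec table_word5_8) (PTab.fixL_spec table_word5_9)) (range_split (PTab.fixL_spec table_word5_10) (PTab.fixL_spec table_word5_11))) (range_split (range_split (PTab.fixL_spec table_word5_12) (PTab.fixL_spec table_word5_13)) (range_split (PTab.fixL_spec table_word5_14) (PTab.fixL_spec table_word5_15))))) u (Nat.zero_le _) hu')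
  | 6, _ => exact ((imgW_fast [3, 3] (by decide) u hu).1).trans ((range_split (range_split (range_split (range_split (PTab.fixL_spec table_word6_0) (PTab.fixL_spec table_word6_1)) (range_split (PTab.fixL_spec table_word6_2) (PTab.fixL_spec table_word6_3))) (range_split (range_split (PTab.fixL_spec table_word6_4) (PTab.fixL_spec table_word6_5)) (range_split (PTab.fixL_spec table_word6_6) (PTab.fixL_spec table_word6_7)))) (range_split (range_split (range_split (PTab.fixL_spec table_word6_8) (PTab.fixL_spec table_word6_9)) (range_split (PTab.fixL_spec table_word6_10) (PTab.fixL_spec table_word6_11))) (range_split (range_split (PTab.fixL_spec table_word6_12) (PTab.fixL_spec table_word6_13)) (range_split (PTab.fixL_spec table_word6_14) (PTab.fixL_spec table_word6_15))))) u (Nat.zero_le _) hu')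
  | 7, _ => exact ((imgW_fast [4, 3, 4, 3, 4, 3] (by decide) u hu).1).trans ((range_split (range_split (range_split (range_split (PTab.fixL_spec table_word7_0) (PTab.fixL_spec table_word7_1)) (range_split (PTab.fixL_spec table_word7_2) (PTab.fixL_spec table_word7_3))) (range_split (range_split (PTab.fixL_spec table_word7_4) (PTab.fixL_spec table_word7_5)) (range_split (PTab.fixL_spec table_word7_6) (PTab.fixL_spec table_word7_7)))) (range_split (range_split (range_split (PTab.fixL_spec table_word7_8) (PTab.fixL_spec table_word7_9)) (range_split (PTab.fixL_spec table_word7_10) (PTab.fixL_spec table_word7_11))) (range_split (range_split (PTab.fixL_spec table_word7_12) (PTab.fixL_spec table_word7_13)) (range_split (PTab.fixL_spec table_word7_14) (PTab.fixL_spec table_word7_15))))) u (Nat.zero_le _) hu')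
  | 8, _ => exact ((imgW_fast [5, 3, 5, 3] (by decide) u hu).1).trans ((range_split (range_split (range_split (range_split (PTab.fixL_spec table_word8_0) (PTab.fixL_spec table_word8_1)) (range_split (PTab.fixL_spec table_word8_2) (PTab.fixL_spec table_word8_3))) (range_split (range_split (PTab.fixL_spec table_word8_4) (PTab.fixL_spec table_word8_5)) (range_split (PTab.fixL_spec table_word8_6) (PTab.fixL_spec table_word8_7)))) (range_split (range_split (range_split (PTab.fixL_spec table_word8_8) (PTab.fixL_spec table_word8_9)) (range_split (PTab.fixL_spec table_word8_10) (PTab.fixL_spec table_word8_11))) (range_split (range_split (PTab.fixL_spec table_word8_12) (PTab.fixL_spec table_word8_13)) (range_split (PTab.fixL_spec table_word8_14) (PTab.fixL_spec table_word8_15))))) u (Nat.zero_le _) hu')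
  | 9, _ => exact ((imgW_fast [6, 3, 6, 3] (by decide) u hu).1).trans ((range_split (range_split (range_split (range_split (PTab.fixL_spec table_word9_0) (PTab.fixL_spec table_word9_1)) (range_split (PTab.fixL_spec table_word9_2) (PTab.fixL_spec table_word9_3))) (range_split (range_split (PTab.fixL_spec table_word9_4) (PTab.fixL_spec table_word9_5)) (range_split (PTab.fixL_spec table_word9_6) (PTab.fixL_spec table_word9_7)))) (range_split (range_split (range_split (PTab.fixL_spec table_word9_8) (PTab.fixL_spec table_word9_9)) (range_split (PTab.fixL_spec table_word9_10) (PTab.fixL_spec table_word9_11))) (range_split (range_split (PTab.fixL_spec table_word9_12) (PTab.fixL_spec table_word9_13)) (range_split (PTab.fixL_spec table_word9_14) (PTab.fixL_spec table_word9_15))))) u (Nat.zero_le _) hu')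
  | 10, _ => exact ((imgW_fast [7, 3, 7, 3] (by decide) u hu).1).trans ((range_split (range_split (range_split (range_split (PTab.fixL_spec table_word10_0) (PTab.fixL_spec table_word10_1)) (range_split (PTab.fixL_spec table_word10_2) (PTab.fixL_spec table_word10_3))) (range_split (range_split (PTab.fixL_spec table_word10_4) (PTab.fixL_spec table_word10_5)) (range_split (PTab.fixL_spec table_word10_6) (PTab.fixL_spec table_word10_7)))) (range_split (range_split (range_split (PTab.fixL_spec table_word10_8) (PTab.fixL_spec table_word10_9)) (range_split (PTab.fixL_spec table_word10_10) (PTab.fixL_spec table_word10_11))) (range_split (range_split (PTab.fixL_spec table_word10_12) (PTab.fixL_spec table_word10_13)) (range_split (PTab.fixL_spec table_word10_14) (PTab.fixL_spec table_word10_15))))) u (Nat.zero_le _) hu')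
  | 11, _ => exact ((imgW_fast [4, 4] (by decide) u hu).1).trans ((range_split (range_split (range_split (range_split (PTab.fixL_spec table_word11_0) (PTab.fixL_spec table_word11_1)) (range_split (PTab.fixL_spec table_word11_2) (PTab.fixL_spec table_word11_3))) (range_split (range_split (PTab.fixL_spec table_word11_4) (PTab.fixL_spec table_word11_5)) (range_split (PTab.fixL_spec table_word11_6) (PTab.fixL_spec table_word11_7)))) (range_split (range_split (range_split (PTab.fixL_spec table_word11_8) (PTab.fixL_spec table_word11_9)) (range_split (PTab.fixL_spec table_word11_10) (PTab.fixL_spec table_word11_11))) (range_split (range_split (PTab.fixL_spec table_word11_12) (PTab.fixL_spec table_word11_13)) (range_split (PTab.fixL_spec table_word11_14) (PTab.fixL_spec table_word11_15))))) u (Nat.zero_le _) hu')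
  | 12, _ => exact ((imgW_fast [5, 4, 5, 4, 5, 4, 5, 4, 5, 4, 5, 4, 5, 4, 5, 4] (by decide) u hu).1).trans ((range_split (range_split (range_split (range_split (PTab.fixL_spec table_word12_0) (range_split (PTab.fixL_spec table_word12_1) (PTab.fixL_spec table_word12_2))) (range_split (range_split (PTab.fixL_spec table_word12_3) (PTab.fixL_spec table_word12_4)) (range_split (PTab.fixL_spec table_word12_5) (PTab.fixL_spec table_word12_6)))) (range_split (range_split (range_split (PTab.fixL_spec table_word12_7) (PTab.fixL_spec table_word12_8)) (range_split (PTab.fixL_spec table_word12_9) (PTab.fixL_spec table_word12_10))) (range_split (range_split (PTab.fixL_spec table_word12_11) (PTab.fixL_spec table_word12_12)) (range_split (PTab.fixL_spec table_word12_13) (PTab.fixL_spec table_word12_14))))) (range_split (range_split (range_split (range_split (PTab.fixL_spec table_word12_15) (PTab.fixL_spec table_word12_16)) (range_split (PTab.fixL_spec table_word12_17) (PTab.fixL_spec table_word12_18))) (range_split (range_split (PTab.fixL_spec table_word12_19) (PTab.fixL_spec table_word12_20)) (range_split (PTab.fixL_spec table_word12_21) (PTab.fixL_spec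 table_word12_22)))) (range_split (range_split (range_split (PTab.fixL_spec table_word12_23) (PTab.fixL_spec table_word12_24)) (range_split (PTab.fixL_spec table_word12_25) (PTab.fixL_spec table_word12_26))) (range_split (range_split (PTab.fixL_spec table_word12_27) (PTab.fixL_spec table_word12_28)) (range_split (PTab.fixL_spec table_word12_29) (PTab.fixL_spec table_word12_30)))))) u (Nat.zero_le _) hu')
  | 13, _ => exact ((imgW_fast [6, 4, 6, 4] (by decide) u hu).1).trans ((range_split (range_split (range_split (range_split (PTab.fixL_spec table_word13_0) (PTab.fixL_spec table_word13_1)) (range_split (PTab.fixL_spec table_word13_2) (PTab.fixL_spec table_word13_3))) (range_split (range_split (PTab.fixL_spec table_word13_4) (PTab.fixL_spec table_word13_5)) (range_split (PTab.fixL_spec table_word13_6) (PTab.fixL_spec table_word13_7)))) (range_split (range_split (range_split (PTab.fixL_spec table_word13_8) (PTab.fixL_spec table_word13_9)) (range_split (PTab.fixL_spec table_word13_10) (PTab.fixL_spec table_word13_11))) (range_split (range_split (PTab.fixL_spec table_word13_12) (PTab.fixL_spec table_word13_13)) (range_split (PTab.fixL_spec table_word13_14)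 (PTab.fixL_spec table_word13_15))))) u (Nat.zero_le _) hu')
  | 14, _ => exact ((imgW_fast [7, 4, 7, 4] (by decide) u hu).1).trans ((range_split (range_split (range_split (range_split (PTab.fixL_spec table_word14_0) (PTab.fixL_spec table_word14_1)) (range_split (PTab.fixL_spec table_word14_2) (PTab.fixL_spec table_word14_3))) (range_split (range_split (PTab.fixL_spec table_word14_4) (PTab.fixL_spec table_word14_5)) (range_split (PTab.fixL_spec table_word14_6) (PTab.fixL_spec table_word14_7)))) (range_split (range_split (range_split (PTab.fixL_spec table_word14_8) (PTab.fixL_spec table_word14_9)) (range_split (PTab.fixL_spec table_word14_10) (PTab.fixL_spec table_word14_11))) (range_split (range_split (PTab.fixL_spec table_word14_12) (PTab.fixL_spec table_word14_13)) (range_split (PTab.fixL_spec table_word14_14) (PTab.fixL_spec table_word14_15))))) u (Nat.zero_le _) hu')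
  | 15, _ => exact ((imgW_fast [5, 5] (by decide) u hu).1).trans ((range_split (range_split (range_split (range_split (PTab.fixL_spec table_word15_0) (PTab.fixL_spec table_word15_1)) (range_split (PTab.fixL_spec table_word15_2) (PTab.fixL_spec table_word15_3))) (range_split (range_split (PTab.fixL_spec table_word15_4) (PTab.fixL_spec table_word15_5)) (range_split (PTab.fixL_spec table_word15_6) (PTab.fixL_spec table_word15_7)))) (range_split (range_split (range_split (PTab.fixL_spec table_word15_8) (PTab.fixL_spec table_word15_9)) (range_split (PTab.fixL_spec table_word15_10) (PTab.fixL_spec table_word15_11))) (range_split (range_split (PTab.fixL_spec table_word15_12) (PTab.fixL_spec table_word15_13)) (range_split (PTab.fixL_spec table_word15_14) (PTab.fixL_spec table_word15_15))))) u (Nat.zero_le _) hu')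
  | 16, _ => exact ((imgW_fast [6, 5, 6, 5, 6, 5] (by decide) u hu).1).trans ((range_split (range_split (range_split (range_split (PTab.fixL_spec table_word16_0) (PTab.fixL_spec table_word16_1)) (range_split (PTab.fixL_spec table_word16_2) (PTab.fixL_spec table_word16_3))) (range_split (range_split (PTab.fixL_spec table_word16_4) (PTab.fixL_spec table_word16_5)) (range_split (PTab.fixL_spec table_word16_6) (PTab.fixL_spec table_word16_7)))) (range_split (range_split (range_split (PTab.fixL_spec table_word16_8) (PTab.fixL_spec table_word16_9)) (range_split (PTab.fixL_spec table_word16_10) (PTab.fixL_spec table_word16_11))) (range_split (range_split (PTab.fixL_spec table_word16_12) (PTab.fixL_spec table_word16_13)) (range_split (PTab.fixL_spec table_word16_14) (PTab.fixL_spec table_word16_15))))) u (Nat.zero_le _) hu')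
  | 17, _ => exact ((imgW_fast [7, 5, 7, 5] (by decide) u hu).1).trans ((range_split (range_split (range_split (range_split (PTab.fixL_spec table_word17_0) (PTab.fixL_spec table_word17_1)) (range_split (PTab.fixL_spec table_word17_2) (PTab.fixL_spec table_word17_3))) (range_split (range_split (PTab.fixL_spec table_word17_4) (PTab.fixL_spec table_word17_5)) (range_split (PTab.fixL_spec table_word17_6) (PTab.fixL_spec table_word17_7)))) (range_split (range_split (range_split (PTab.fixL_spec table_word17_8) (PTab.fixL_spec table_word17_9)) (range_split (PTab.fixL_spec table_word17_10) (PTab.fixL_spec table_word17_11))) (range_split (range_split (PTab.fixL_spec table_word17_12) (PTab.fixL_spec table_word17_13)) (range_split (PTab.fixL_spec table_word17_14) (PTab.fixL_spec table_word17_15))))) u (Nat.zero_le _) hu')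
  | 18, _ => exact ((imgW_fast [6, 6] (by decide) u hu).1).trans ((range_split (range_split (range_split (range_split (PTab.fixL_spec table_word18_0) (PTab.fixL_spec table_word18_1)) (range_split (PTab.fixL_spec table_word18_2) (PTab.fixL_spec table_word18_3))) (range_split (range_split (PTab.fixL_spec table_word18_4) (PTab.fixL_spec table_word18_5)) (range_split (PTab.fixL_spec table_word18_6) (PTab.fixL_spec table_word18_7)))) (range_split (range_split (range_split (PTab.fixL_spec table_word18_8) (PTab.fixL_spec table_word18_9)) (range_split (PTab.fixL_spec table_word18_10) (PTab.fixL_spec table_word18_11))) (range_split (range_split (PTab.fixL_spec table_word18_12) (PTab.fixL_spec table_word18_13)) (range_split (PTab.fixL_spec table_word18_14) (PTab.fixL_spec table_word18_15))))) u (Nat.zero_le _) hu')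
  | 19, _ => exact ((imgW_fast [7, 6, 7, 6, 7, 6] (by decide) u hu).1).trans ((range_split (range_split (range_split (range_split (PTab.fixL_spec table_word19_0) (PTab.fixL_spec table_word19_1)) (range_split (PTab.fixL_spec table_word19_2) (PTab.fixL_spec table_word19_3))) (range_split (range_split (PTab.fixL_spec table_word19_4) (PTab.fixL_spec table_word19_5)) (range_split (PTab.fixL_spec table_word19_6) (PTab.fixL_spec table_word19_7)))) (range_split (range_split (range_split (PTab.fixL_spec table_word19_8) (PTab.fixL_spec table_word19_9)) (range_split (PTab.fixL_spec table_word19_10) (PTab.fixL_spec table_word19_11))) (range_split (range_split (PTab.fixL_spec table_word19_12) (PTab.fixL_spec table_word19_13)) (range_split (PTab.fixL_spec table_word19_14) (PTab.fixL_spec table_word19_15))))) u (Nat.zero_le _) hu')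
  | 20, _ => exact ((imgW_fast [7, 7] (by decide) u hu).1).trans ((range_split (range_split (range_split (range_split (PTab.fixL_spec table_word20_0) (PTab.fixL_spec table_word20_1)) (range_split (PTab.fixL_spec table_word20_2) (PTab.fixL_spec table_word20_3))) (range_split (range_split (PTab.fixL_spec table_word20_4) (PTab.fixL_spec table_word20_5)) (range_split (PTab.fixL_spec table_word20_6) (PTab.fixL_spec table_word20_7)))) (range_split (range_split (range_split (PTab.fixL_spec table_word20_8) (PTab.fixL_spec table_word20_9)) (range_split (PTab.fixL_spec table_word20_10) (PTab.fixL_spec table_word20_11))) (range_split (range_split (PTab.fixL_spec table_word20_12) (PTab.fixL_spec table_word20_13)) (range_split (PTab.fixL_spec table_word20_14) (PTab.fixL_spec table_word20_15))))) u (Nat.zero_le _) hu')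
  | 21, _ => exact ((imgW_fast [1, 1, 7, 2] (by decide) u hu).1).trans ((range_split (range_split (range_split (range_split (PTab.fixL_spec table_word21_0) (PTab.fixL_spec table_word21_1)) (range_split (PTab.fixL_spec table_word21_2) (PTab.fixL_spec table_word21_3))) (range_split (range_split (PTab.fixL_spec table_word21_4) (PTab.fixL_spec table_word21_5)) (range_split (PTab.fixL_spec table_word21_6) (PTab.fixL_spec table_word21_7)))) (range_split (range_split (range_split (PTab.fixL_spec table_word21_8) (PTab.fixL_spec table_word21_9)) (range_split (PTab.fixL_spec table_word21_10) (PTab.fixL_spec table_word21_11))) (range_split (range_split (PTab.fixL_spec table_word21_12) (PTab.fixL_spec table_word21_13)) (range_split (PTab.fixL_spec table_word21_14) (PTab.fixL_spec table_word21_15))))) u (Nat.zero_le _) hu')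
  | 22, _ => exact ((imgW_fast [4, 5, 4, 5, 4, 5, 4, 5, 7, 2] (by decide) u hu).1).trans ((range_split (range_split (range_split (range_split (PTab.fixL_spec table_word22_0) (PTab.fixL_spec table_word22_1)) (range_split (PTab.fixL_spec table_word22_2) (range_split (PTab.fixL_spec table_word22_3) (PTab.fixL_spec table_word22_4)))) (range_split (range_split (PTab.fixL_spec table_word22_5) (PTab.fixL_spec table_word22_6)) (range_split (PTab.fixL_spec table_word22_7) (range_split (PTab.fixL_spec table_word22_8) (PTab.fixL_spec table_word22_9))))) (range_split (range_split (range_split (PTab.fixL_spec table_word22_10) (PTab.fixL_spec table_word22_11)) (range_split (PTab.fixL_spec table_word22_12) (range_split (PTab.fixL_spec table_word22_13) (PTab.fixL_spec table_word22_14)))) (range_split (range_split (PTab.fixL_spec table_word22_15) (PTab.fixL_spec table_word22_16)) (range_split (PTab.fixL_spec table_word22_17) (range_split (PTab.fixL_spec table_word22_18) (PTab.fixL_spec table_word22_19)))))) u (Nat.zero_le _) hu')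
  | 23, _ => exact ((imgW_fast [0, 5, 0, 5, 4, 5, 1, 5, 1, 4] (by decide) u hu).1).trans ((range_split (range_split (range_split (range_split (PTab.fixL_spec table_word23_0) (PTab.fixL_spec table_word23_1)) (range_split (PTab.fixL_spec table_word23_2) (range_split (PTab.fixL_spec table_word23_3) (PTab.fixL_spec table_word23_4)))) (range_split (range_split (PTab.fixL_spec table_word23_5) (PTab.fixL_spec table_word23_6)) (range_split (PTab.fixL_spec table_word23_7) (range_split (PTab.fixL_spec table_word23_8) (PTab.fixL_spec table_word23_9))))) (range_split (range_split (range_split (PTab.fixL_spec table_word23_10) (PTab.fixL_spec table_word23_11)) (range_split (PTab.fixL_spec table_word23_12) (range_split (PTab.fixL_spec table_word23_13) (PTab.fixL_spec table_word23_14)))) (range_split (range_split (PTab.fixL_spec table_word23_15) (PTab.fixL_spec table_word23_16)) (range_split (PTab.fixL_spec table_word23_17) (range_split (PTab.fixL_spec table_word23_18) (PTab.fixL_spec table_word23_19)))))) u (Nat.zero_le _) hu')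
  | 24, _ => exact ((imgW_fast [0, 4, 0, 4, 5, 4, 1, 4, 1, 5] (by decide) u hu).1).trans ((range_split (range_split (range_split (range_split (PTab.fixL_spec table_word24_0) (PTab.fixL_spec table_word24_1)) (range_split (PTab.fixL_spec table_word24_2) (range_split (PTab.fixL_spec table_word24_3) (PTab.fixL_spec table_word24_4)))) (range_split (range_split (PTab.fixL_spec table_word24_5) (PTab.fixL_spec table_word24_6)) (range_split (PTab.fixL_spec table_word24_7) (range_split (PTab.fixL_spec table_word24_8) (PTab.fixL_spec table_word24_9))))) (range_split (range_split (range_split (PTab.fixL_spec table_word24_10) (PTab.fixL_spec table_word24_11)) (range_split (PTab.fixL_spec table_word24_12) (range_split (PTab.fixL_spec table_word24_13) (PTab.fixL_spec table_word24_14)))) (range_split (range_split (PTab.fixL_spec table_word24_15) (PTab.fixL_spec table_word24_16)) (range_split (PTab.fixL_spec table_word24_17) (range_split (PTab.fixL_spec table_word24_18) (PTab.fixL_spec table_word24_19)))))) u (Nat.zero_le _) hu')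
  | 25, _ => exact ((imgW_fast [0, 5, 4, 3, 0, 5, 4, 3, 0, 5, 4, 3, 0, 5, 4, 3, 0, 5, 4, 3] (by decide) u hu).1).trans ((range_split (range_split (range_split (range_split (range_split (PTab.fixL_spec table_word25_0) (PTab.fixL_spec table_word25_1)) (range_split (PTab.fixL_spec table_word25_2) (PTab.fixL_spec table_word25_3))) (range_split (range_split (PTab.fixL_spec table_word25_4) (PTab.fixL_spec table_word25_5)) (range_split (PTab.fixL_spec table_word25_6) (range_split (PTab.fixL_spec table_word25_7) (PTab.fixL_spec table_word25_8))))) (range_split (range_split (range_split (PTab.fixL_spec table_word25_9) (PTab.fixL_spec table_word25_10)) (range_split (PTab.fixL_spec table_word25_11) (range_split (PTab.fixL_spec table_word25_12) (PTab.fixL_spec table_word25_13)))) (range_split (range_split (PTab.fixL_spec table_word25_14) (PTab.fixL_spec table_word25_15)) (range_split (PTab.fixL_spec table_word25_16) (range_split (PTab.fixL_spec table_word25_17) (PTab.fixL_spec table_word25_18)))))) (range_split (range_split (range_split (range_split (PTab.fixL_spec table_word25_19) (PTab.fixL_spec table_word25_20)) (range_split (PTab.fixL_spec table_word25_21)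 (range_split (PTab.fixL_spec table_word25_22) (PTab.fixL_spec table_word25_23)))) (range_split (range_split (PTab.fixL_spec table_word25_24) (PTab.fixL_spec table_word25_25)) (range_split (PTab.fixL_spec table_word25_26) (range_split (PTab.fixL_spec table_word25_27) (PTab.fixL_spec table_word25_28))))) (range_split (range_split (range_split (PTab.fixL_spec table_word25_29) (PTab.fixL_spec table_word25_30)) (range_split (PTab.fixL_spec table_word25_31) (range_split (PTab.fixL_spec table_word25_32) (PTab.fixL_spec table_word25_33)))) (range_split (range_split (PTab.fixL_spec table_word25_34) (PTab.fixL_spec table_word25_35)) (range_split (PTab.fixL_spec table_word25_36) (range_split (PTab.fixL_spec table_word25_37) (PTab.fixL_spec table_word25_38))))))) u (Nat.zero_le _) hu')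
  | 26, _ => exact ((imgW_fast [4, 0, 4, 3, 0, 3, 4, 0, 4, 3, 0] (by decide) u hu).1).trans ((range_split (range_split (range_split (range_split (PTab.fixL_spec table_word26_0) (PTab.fixL_spec table_word26_1)) (range_split (PTab.fixL_spec table_word26_2) (range_split (PTab.fixL_spec table_word26_3) (PTab.fixL_spec table_word26_4)))) (range_split (range_split (PTab.fixL_spec table_word26_5) (range_split (PTab.fixL_spec table_word26_6) (PTab.fixL_spec table_word26_7))) (range_split (PTab.fixL_spec table_word26_8) (range_split (PTab.fixL_spec table_word26_9) (PTab.fixL_spec table_word26_10))))) (range_split (range_split (range_split (PTab.fixL_spec table_word26_11) (PTab.fixL_spec table_word26_12)) (range_split (PTab.fixL_spec table_word26_13) (range_split (PTab.fixL_spec table_word26_14) (PTab.fixL_spec table_word26_15)))) (range_split (range_split (PTab.fixL_spec table_word26_16) (range_split (PTab.fixL_spec table_word26_17) (PTab.fixL_spec table_word26_18))) (range_split (PTab.fixL_spec table_word26_19) (range_split (PTab.fixL_spec table_word26_20) (PTab.fixL_spec table_word26_21)))))) u (Nat.zero_le _) hu')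
  | 27, _ => exact ((imgW_fast [5, 0, 5, 6, 0, 6, 5, 0, 5, 6, 0] (by decide) u hu).1).trans ((range_split (range_split (range_split (range_split (PTab.fixL_spec table_word27_0) (PTab.fixL_spec table_word27_1)) (range_split (PTab.fixL_spec table_word27_2) (range_split (PTab.fixL_spec table_word27_3) (PTab.fixL_spec table_word27_4)))) (range_split (range_split (PTab.fixL_spec table_word27_5) (range_split (PTab.fixL_spec table_word27_6) (PTab.fixL_spec table_word27_7))) (range_split (PTab.fixL_spec table_word27_8) (range_split (PTab.fixL_spec table_word27_9) (PTab.fixL_spec table_word27_10))))) (range_split (range_split (range_split (PTab.fixL_spec table_word27_11) (PTab.fixL_spec table_word27_12)) (range_split (PTab.fixL_spec table_word27_13) (range_split (PTab.fixL_spec table_word27_14) (PTab.fixL_spec table_word27_15)))) (range_split (range_split (PTab.fixL_spec table_word27_16) (range_split (PTab.fixL_spec table_word27_17) (PTab.fixL_spec table_word27_18))) (range_split (PTab.fixL_spec table_word27_19) (range_split (PTab.fixL_spec table_word27_20) (PTab.fixL_spec table_word27_21)))))) u (Nat.zero_le _) hu')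
  | j + 28, h => exact absurd h (by omega)

theorem table_gen : ∀ u < table.N, ∀ x < table.nl,
    table.inv x < table.nl ∧ table.img x u < table.N ∧
      table.img (table.inv x) (table.img x u) = u := by
  intro u hu x hx
  have hu' : u < 122760 := hu
  have key : ∀ y z : ℕ, table.inv y = z → y < 8 → z < 8 →
      PTab.runL [fastRows.getD y id, fastRows.getD z id] u = u →
      table.inv y < table.nl ∧ table.img y u < table.N ∧
        table.img (table.inv y) (table.img y u) = u := by
    intro y z h hy hz hr
    obtain ⟨h1, h2⟩ := table_fast y hy u hu
    refine ⟨h ▸ hz, h1.symm ▸ h2, ?_⟩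
    rw [h, h1, (table_fast z hz _ h2).1]
    rw [PTab.runL_cons, PTab.runL_cons] at hr
    exact hr
  change x < 8 at hx
  match x, hx with
  | 0, _ => exact key 0 1 (by decide +kernel) (by omega) (by omega) ((range_split (range_split (range_split (range_split (PTab.fixL_spec table_word28_0) (PTab.fixL_spec table_word28_1)) (range_split (PTab.fixL_spec table_word28_2) (PTab.fixL_spec table_word28_3))) (range_split (range_split (PTab.fixL_spec table_word28_4) (PTab.fixL_spec table_word28_5)) (range_split (PTab.fixL_spec table_word28_6) (PTab.fixL_spec table_word28_7)))) (range_split (range_split (range_split (PTab.fixL_spec table_word28_8) (PTab.fixL_spec table_word28_9)) (range_split (PTab.fixL_spec table_word28_10) (PTab.fixL_spec table_word28_11))) (range_split (range_split (PTab.fixL_spec table_word28_12) (PTab.fixL_spec table_word28_13)) (range_split (PTab.fixL_spec table_word28_14) (PTab.fixL_spec table_word28_15))))) u (Nat.zero_le _) hu')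
  | 1, _ => exact key 1 0 (by decide +kernel) (by omega) (by omega) ((range_split (range_split (range_split (range_split (PTab.fixL_spec table_word29_0) (PTab.fixL_spec table_word29_1)) (range_split (PTab.fixL_spec table_word29_2) (PTab.fixL_spec table_word29_3))) (range_split (range_split (PTab.fixL_spec table_word29_4) (PTab.fixL_spec table_word29_5)) (range_split (PTab.fixL_spec table_word29_6) (PTab.fixL_spec table_word29_7)))) (range_split (range_split (range_split (PTab.fixL_spec table_word29_8) (PTab.fixL_spec table_word29_9)) (range_split (PTab.fixL_spec table_word29_10) (PTab.fixL_spec table_word29_11))) (range_split (range_split (PTab.fixL_spec table_word29_12) (PTab.fixL_spec table_word29_13)) (range_split (PTab.fixL_spec table_word29_14) (PTab.fixL_spec table_word29_15))))) u (Nat.zero_le _) hu')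
  | 2, _ => exact key 2 2 (by decide +kernel) (by omega) (by omega) ((range_split (range_split (range_split (range_split (PTab.fixL_spec table_word0_0) (PTab.fixL_spec table_word0_1)) (range_split (PTab.fixL_spec table_word0_2) (PTab.fixL_spec table_word0_3))) (range_split (range_split (PTab.fixL_spec table_word0_4) (PTab.fixL_spec table_word0_5)) (range_split (PTab.fixL_spec table_word0_6) (PTab.fixL_spec table_word0_7)))) (range_split (range_split (range_split (PTab.fixL_spec table_word0_8) (PTab.fixL_spec table_word0_9)) (range_split (PTab.fixL_spec table_word0_10) (PTab.fixL_spec table_word0_11))) (range_split (range_split (PTab.fixL_spec table_word0_12) (PTab.fixL_spec table_word0_13)) (range_split (PTab.fixL_spec table_word0_14) (PTab.fixL_spec table_word0_15))))) u (Nat.zero_le _) hu')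
  | 3, _ => exact key 3 3 (by decide +kernel) (by omega) (by omega) ((range_split (range_split (range_split (range_split (PTab.fixL_spec table_word6_0) (PTab.fixL_spec table_word6_1)) (range_split (PTab.fixL_spec table_word6_2) (PTab.fixL_spec table_word6_3))) (range_split (range_split (PTab.fixL_spec table_word6_4) (PTab.fixL_spec table_word6_5)) (range_split (PTab.fixL_spec table_word6_6) (PTab.fixL_spec table_word6_7)))) (range_split (range_split (range_split (PTab.fixL_spec table_word6_8) (PTab.fixL_spec table_word6_9)) (range_split (PTab.fixL_spec table_word6_10) (PTab.fixL_spec table_word6_11))) (range_split (range_split (PTab.fixL_spec table_word6_12) (PTab.fixL_spec table_word6_13)) (range_split (PTab.fixL_spec table_word6_14) (PTab.fixL_spec table_word6_15))))) u (Nat.zero_le _) hu')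
  | 4, _ => exact key 4 4 (by decide +kernel) (by omega) (by omega) ((range_split (range_split (range_split (range_split (PTab.fixL_spec table_word11_0) (PTab.fixL_spec table_word11_1)) (range_split (PTab.fixL_spec table_word11_2) (PTab.fixL_spec table_word11_3))) (range_split (range_split (PTab.fixL_spec table_word11_4) (PTab.fixL_spec table_word11_5)) (range_split (PTab.fixL_spec table_word11_6) (PTab.fixL_spec table_word11_7)))) (range_split (range_split (range_split (PTab.fixL_spec table_word11_8) (PTab.fixL_spec table_word11_9)) (range_split (PTab.fixL_spec table_word11_10) (PTab.fixL_spec table_word11_11))) (range_split (range_split (PTab.fixL_spec table_word11_12) (PTab.fixL_spec table_word11_13)) (range_split (PTab.fixL_spec table_word11_14) (PTab.fixL_spec table_word11_15))))) u (Nat.zero_le _) hu')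
  | 5, _ => exact key 5 5 (by decide +kernel) (by omega) (by omega) ((range_split (range_split (range_split (range_split (PTab.fixL_spec table_word15_0) (PTab.fixL_spec table_word15_1)) (range_split (PTab.fixL_spec table_word15_2) (PTab.fixL_spec table_word15_3))) (range_split (range_split (PTab.fixL_spec table_word15_4) (PTab.fixL_spec table_word15_5)) (range_split (PTab.fixL_spec table_word15_6) (PTab.fixL_spec table_word15_7)))) (range_split (range_split (range_split (PTab.fixL_spec table_word15_8) (PTab.fixL_spec table_word15_9)) (range_split (PTab.fixL_spec table_word15_10) (PTab.fixL_spec table_word15_11))) (range_split (range_split (PTab.fixL_spec table_word15_12) (PTab.fixL_spec table_word15_13)) (range_split (PTab.fixL_spec table_word15_14) (PTab.fixL_spec table_word15_15))))) u (Nat.zero_le _) hu')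
  | 6, _ => exact key 6 6 (by decide +kernel) (by omega) (by omega) ((range_split (range_split (range_split (range_split (PTab.fixL_spec table_word18_0) (PTab.fixL_spec table_word18_1)) (range_split (PTab.fixL_spec table_word18_2) (PTab.fixL_spec table_word18_3))) (range_split (range_split (PTab.fixL_spec table_word18_4) (PTab.fixL_spec table_word18_5)) (range_split (PTab.fixL_spec table_word18_6) (PTab.fixL_spec table_word18_7)))) (range_split (range_split (range_split (PTab.fixL_spec table_word18_8) (PTab.fixL_spec table_word18_9)) (range_split (PTab.fixL_spec table_word18_10) (PTab.fixL_spec table_word18_11))) (range_split (range_split (PTab.fixL_spec table_word18_12) (PTab.fixL_spec table_word18_13)) (range_split (PTab.fixL_spec table_word18_14) (PTab.fixL_spec table_word18_15))))) u (Nat.zero_le _) hu')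
  | 7, _ => exact key 7 7 (by decide +kernel) (by omega) (by omega) ((range_split (range_split (range_split (range_split (PTab.fixL_spec table_word20_0) (PTab.fixL_spec table_word20_1)) (range_split (PTab.fixL_spec table_word20_2) (PTab.fixL_spec table_word20_3))) (range_split (range_split (PTab.fixL_spec table_word20_4) (PTab.fixL_spec table_word20_5)) (range_split (PTab.fixL_spec table_word20_6) (PTab.fixL_spec table_word20_7)))) (range_split (range_split (range_split (PTab.fixL_spec table_word20_8) (PTab.fixL_spec table_word20_9)) (range_split (PTab.fixL_spec table_word20_10) (PTab.fixL_spec table_word20_11))) (range_split (range_split (PTab.fixL_spec table_word20_12) (PTab.fixL_spec table_word20_13)) (range_split (PTab.fixL_spec table_word20_14) (PTab.fixL_spec table_word20_15))))) u (Nat.zero_le _) hu')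
  | n + 8, h => exact absurd h (by omega)

end CfsgLib.Sporadic.CosetCert.ONData
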