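import Cfsg.Agent.Lib.Sporadic.ONData.ONFast

/-!
# Words act trivially, part 0

Machine-generated data and the kernel checks on it.
-/

set_option maxRecDepth 100000
set_option Elab.async false

namespace CfsgLib.Sporadic.CosetCert.ONData

theorem table_word0_0 : PTab.fixL [fast2, fast2] 0 8000 = true := by decide +kernel
theorem table_word0_1 : PTab.fixL [fast2, fast2] 8000 8000 = true := by decide +kernel
theorem table_word0_2 : PTab.fixL [fast2, fast2] 16000 8000 = true := by decide +kernel
theorem table_word0_3 : PTab.fixL [fast2, fast2] 24000 8000 = true := by decide +kernel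
theorem table_word0_4 : PTab.fixL [fast2, fast2] 32000 8000 = true := by decide +kernel
theorem table_word0_5 : PTab.fixL [fast2, fast2] 40000 8000 = true := by decide +kernel
theorem table_word0_6 : PTab.fixL [fast2, fast2] 48000 8000 = true := by decide +kernel
theorem table_word0_7 : PTab.fixL [fast2, fast2] 56000 8000 = true := by decide +kernel
theorem table_word0_8 : PTab.fixL [fast2, fast2] 64000 8000 = true := by decide +kernel
theorem table_word0_9 : PTab.fixL [fast2, fast2] 72000 8000 = true := by decide +kernel
theorem table_word0_10 : PTab.fixL [fast2, fast2] 80000 8000 = true := by decide +kernel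
theorem table_word0_11 : PTab.fixL [fast2, fast2] 88000 8000 = true := by decide +kernel
theorem table_word0_12 : PTab.fixL [fast2, fast2] 96000 8000 = true := by decide +kernel
theorem table_word0_13 : PTab.fixL [fast2, fast2] 104000 8000 = true := by decide +kernel
theorem table_word0_14 : PTab.fixL [fast2, fast2] 112000 8000 = true := by decide +kernel
theorem table_word0_15 : PTab.fixL [fast2, fast2] 120000 2760 = true := by decide +kernel
theorem table_word1_0 : PTab.fixL [fast3, fast2, fast3, fast2, fast3, fast2] 0 8000 = true := by decide +kernel
theorem table_word1_1 : PTab.fixL [fast3, fast2, fast3, fast2, fast3, fast2] 8000 8000 = true := by decide +kernel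
theorem table_word1_2 : PTab.fixL [fast3, fast2, fast3, fast2, fast3, fast2] 16000 8000 = true := by decide +kernel
theorem table_word1_3 : PTab.fixL [fast3, fast2, fast3, fast2, fast3, fast2] 24000 8000 = true := by decide +kernel
theorem table_word1_4 : PTab.fixL [fast3, fast2, fast3, fast2, fast3, fast2] 32000 8000 = true := by decide +kernel
theorem table_word1_5 : PTab.fixL [fast3, fast2, fast3, fast2, fast3, fast2] 40000 8000 = true := by decide +kernel
theorem table_word1_6 : PTab.fixL [fast3, fast2, fast3, fast2, fast3, fast2] 48000 8000 = true := by decide +kernel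
theorem table_word1_7 : PTab.fixL [fast3, fast2, fast3, fast2, fast3, fast2] 56000 8000 = true := by decide +kernel
theorem table_word1_8 : PTab.fixL [fast3, fast2, fast3, fast2, fast3, fast2] 64000 8000 = true := by decide +kernel
theorem table_word1_9 : PTab.fixL [fast3, fast2, fast3, fast2, fast3, fast2] 72000 8000 = true := by decide +kernel
theorem table_word1_10 : PTab.fixL [fast3, fast2, fast3, fast2, fast3, fast2] 80000 8000 = true := by decide +kernel
theorem table_word1_11 : PTab.fixL [fast3, fast2, fast3, fast2, fast3, fast2] 88000 8000 = true := by decide +kernel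
theorem table_word1_12 : PTab.fixL [fast3, fast2, fast3, fast2, fast3, fast2] 96000 8000 = true := by decide +kernel
theorem table_word1_13 : PTab.fixL [fast3, fast2, fast3, fast2, fast3, fast2] 104000 8000 = true := by decide +kernel
theorem table_word1_14 : PTab.fixL [fast3, fast2, fast3, fast2, fast3, fast2] 112000 8000 = true := by decide +kernel
theorem table_word1_15 : PTab.fixL [fast3, fast2, fast3, fast2, fast3, fast2] 120000 2760 = true := by decide +kernel
theorem table_word2_0 : PTab.fixL [fast4, fast2, fast4, fast2] 0 8000 = true := by decide +kernel
theorem table_word2_1 : PTab.fixL [fast4, fast2, fast4, fast2] 8000 8000 = true := by decide +kernel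
theorem table_word2_2 : PTab.fixL [fast4, fast2, fast4, fast2] 16000 8000 = true := by decide +kernel
theorem table_word2_3 : PTab.fixL [fast4, fast2, fast4, fast2] 24000 8000 = true := by decide +kernel
theorem table_word2_4 : PTab.fixL [fast4, fast2, fast4, fast2] 32000 8000 = true := by decide +kernel
theorem table_word2_5 : PTab.fixL [fast4, fast2, fast4, fast2] 40000 8000 = true := by decide +kernel
theorem table_word2_6 : PTab.fixL [fast4, fast2, fast4, fast2] 48000 8000 = true := by decide +kernel
theorem table_word2_7 : PTab.fixL [fast4, fast2, fast4, fast2] 56000 8000 = true := by decide +kernel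
theorem table_word2_8 : PTab.fixL [fast4, fast2, fast4, fast2] 64000 8000 = true := by decide +kernel
theorem table_word2_9 : PTab.fixL [fast4, fast2, fast4, fast2] 72000 8000 = true := by decide +kernel
theorem table_word2_10 : PTab.fixL [fast4, fast2, fast4, fast2] 80000 8000 = true := by decide +kernel
theorem table_word2_11 : PTab.fixL [fast4, fast2, fast4, fast2] 88000 8000 = true := by decide +kernel
theorem table_word2_12 : PTab.fixL [fast4, fast2, fast4, fast2] 96000 8000 = true := by decide +kernel
theorem table_word2_13 : PTab.fixL [fast4, fast2, fast4, fast2] 104000 8000 = true := by decide +kernel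

end CfsgLib.Sporadic.CosetCert.ONData
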