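import Cfsg.Agent.Lib.Sporadic.ONData.ONFast

/-!
# Words act trivially, part 12

Machine-generated data and the kernel checks on it.
-/

set_option maxRecDepth 100000
set_option Elab.async false

namespace CfsgLib.Sporadic.CosetCert.ONData

theorem table_word26_3 : PTab.fixL [fast4, fast0, fast4, fast3, fast0, fast3, fast4, fast0, fast4, fast3, fast0] 17454 5818 = true := by decide +kernel
theorem table_word26_4 : PTab.fixL [fast4, fast0, fast4, fast3, fast0, fast3, fast4, fast0, fast4, fast3, fast0] 23272 5818 = true := by decide +kernel
theorem table_word26_5 : PTab.fixL [fast4, fast0, fast4, fast3, fast0, fast3, fast4, fast0, fast4, fast3, fast0] 29090 5818 = true := by decide +kernel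
theorem table_word26_6 : PTab.fixL [fast4, fast0, fast4, fast3, fast0, fast3, fast4, fast0, fast4, fast3, fast0] 34908 5818 = true := by decide +kernel
theorem table_word26_7 : PTab.fixL [fast4, fast0, fast4, fast3, fast0, fast3, fast4, fast0, fast4, fast3, fast0] 40726 5818 = true := by decide +kernel
theorem table_word26_8 : PTab.fixL [fast4, fast0, fast4, fast3, fast0, fast3, fast4, fast0, fast4, fast3, fast0] 46544 5818 = true := by decide +kernel
theorem table_word26_9 : PTab.fixL [fast4, fast0, fast4, fast3, fast0, fast3, fast4, fast0, fast4, fast3, fast0] 52362 5818 = true := by decide +kernel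
theorem table_word26_10 : PTab.fixL [fast4, fast0, fast4, fast3, fast0, fast3, fast4, fast0, fast4, fast3, fast0] 58180 5818 = true := by decide +kernel
theorem table_word26_11 : PTab.fixL [fast4, fast0, fast4, fast3, fast0, fast3, fast4, fast0, fast4, fast3, fast0] 63998 5818 = true := by decide +kernel
theorem table_word26_12 : PTab.fixL [fast4, fast0, fast4, fast3, fast0, fast3, fast4, fast0, fast4, fast3, fast0] 69816 5818 = true := by decide +kernel
theorem table_word26_13 : PTab.fixL [fast4, fast0, fast4, fast3, fast0, fast3, fast4, fast0, fast4, fast3, fast0] 75634 5818 = true := by decide +kernel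
theorem table_word26_14 : PTab.fixL [fast4, fast0, fast4, fast3, fast0, fast3, fast4, fast0, fast4, fast3, fast0] 81452 5818 = true := by decide +kernel
theorem table_word26_15 : PTab.fixL [fast4, fast0, fast4, fast3, fast0, fast3, fast4, fast0, fast4, fast3, fast0] 87270 5818 = true := by decide +kernel
theorem table_word26_16 : PTab.fixL [fast4, fast0, fast4, fast3, fast0, fast3, fast4, fast0, fast4, fast3, fast0] 93088 5818 = true := by decide +kernel
theorem table_word26_17 : PTab.fixL [fast4, fast0, fast4, fast3, fast0, fast3, fast4, fast0, fast4, fast3, fast0] 98906 5818 = true := by decide +kernel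
theorem table_word26_18 : PTab.fixL [fast4, fast0, fast4, fast3, fast0, fast3, fast4, fast0, fast4, fast3, fast0] 104724 5818 = true := by decide +kernel
theorem table_word26_19 : PTab.fixL [fast4, fast0, fast4, fast3, fast0, fast3, fast4, fast0, fast4, fast3, fast0] 110542 5818 = true := by decide +kernel
theorem table_word26_20 : PTab.fixL [fast4, fast0, fast4, fast3, fast0, fast3, fast4, fast0, fast4, fast3, fast0] 116360 5818 = true := by decide +kernel
theorem table_word26_21 : PTab.fixL [fast4, fast0, fast4, fast3, fast0, fast3, fast4, fast0, fast4, fast3, fast0] 122178 582 = true := by decide +kernel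
theorem table_word27_0 : PTab.fixL [fast5, fast0, fast5, fast6, fast0, fast6, fast5, fast0, fast5, fast6, fast0] 0 5818 = true := by decide +kernel
theorem table_word27_1 : PTab.fixL [fast5, fast0, fast5, fast6, fast0, fast6, fast5, fast0, fast5, fast6, fast0] 5818 5818 = true := by decide +kernel
theorem table_word27_2 : PTab.fixL [fast5, fast0, fast5, fast6, fast0, fast6, fast5, fast0, fast5, fast6, fast0] 11636 5818 = true := by decide +kernel
theorem table_word27_3 : PTab.fixL [fast5, fast0, fast5, fast6, fast0, fast6, fast5, fast0, fast5, fast6, fast0] 17454 5818 = true := by decide +kernel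
theorem table_word27_4 : PTab.fixL [fast5, fast0, fast5, fast6, fast0, fast6, fast5, fast0, fast5, fast6, fast0] 23272 5818 = true := by decide +kernel
theorem table_word27_5 : PTab.fixL [fast5, fast0, fast5, fast6, fast0, fast6, fast5, fast0, fast5, fast6, fast0] 29090 5818 = true := by decide +kernel
theorem table_word27_6 : PTab.fixL [fast5, fast0, fast5, fast6, fast0, fast6, fast5, fast0, fast5, fast6, fast0] 34908 5818 = true := by decide +kernel

end CfsgLib.Sporadic.CosetCert.ONData
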